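import Cfsg.Agent.Lib.E8NoPSL3.AlcoveDefs

/-! The kernel run of a part of the search. -/

set_option autoImplicit false

namespace Cfsg.Agent.Lib.E8NoPSL3.Alcove

theorem searchD_ok : part admSet 6 5 = true := by decide +kernel

end Cfsg.Agent.Lib.E8NoPSL3.Alcove
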