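import Cfsg.Agent.Lib.E8NoPSL3.AlcoveTables
import Cfsg.Agent.Lib.E8NoPSL3.AlcoveSearchA
import Cfsg.Agent.Lib.E8NoPSL3.AlcoveSearchB
import Cfsg.Agent.Lib.E8NoPSL3.AlcoveSearchC
import Cfsg.Agent.Lib.E8NoPSL3.AlcoveSearchD
import Cfsg.Agent.Lib.E8NoPSL3.AlcoveSearchE

/-!
Every coweight of E₈ modulo 73 is equivalent to a point of the alcove; the enumeration of the alcove.
-/

set_option autoImplicit false
set_option maxRecDepth 4000

namespace Cfsg.Agent.Lib.E8NoPSL3.Alcove

open Cfsg.Lie Cfsg.Agent.Lib.Compute Cfsg.Agent.Lib.H59.Homocyclic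

/-- The value of a root at an integral point. -/
def val (μ : Fin 8 → ℤ) (s : Fin 240) : ℤ := ∑ j : Fin 8, rc s j * μ j

/-- The distribution of a function on the roots. -/
def rcnt (g : Fin 240 → ZMod 73) (e : ZMod 73) : ℕ := (Finset.univ.filter fun s => g s = e).card

/-- The sum of the squares of the root values. -/
def Qf (μ : Fin 8 → ℤ) : ℤ := ∑ s : Fin 240, val μ s ^ 2

/-- The sum of the values of the positive roots. -/
def Hf (μ : Fin 8 → ℤ) : ℤ := ∑ j : Fin 8, rho2 j * μ j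

theorem cnt_comp (g : Fin 240 → ZMod 73) (σ : Equiv.Perm (Fin 240)) (e : ZMod 73) :
    rcnt (fun s => g (σ s)) e = rcnt g e :=
  Finset.card_equiv σ (by simp)

theorem Hf_le (μ : Fin 8 → ℤ) : Hf μ ≤ Qf μ := by
  have h : Hf μ = ∑ s : Fin 240, if 120 ≤ (s : ℕ) then val μ s else 0 := by
    simp only [Hf, ← rho2_eq, Finset.sum_mul]
    rw [Finset.sum_comm]
    refine Finset.sum_congr rfl fun s _ => ?_
    split <;> simp [val]
  rw [h, Qf]
  refine Finset.sum_le_sum fun s _ => ?_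
  split
  · nlinarith [sq_nonneg (val μ s), Int.le_self_sq (val μ s)]
  · exact sq_nonneg _

theorem exists_alcove (c : ZMod 73 → ℕ) (μ₀ : Fin 8 → ℤ)
    (h₀ : ∀ e, rcnt (fun s => (val μ₀ s : ZMod 73)) e = c e) :
    ∃ μ : Fin 8 → ℤ, (∀ e, rcnt (fun s => (val μ s : ZMod 73)) e = c e) ∧ (∀ j, 0 ≤ μ j) ∧
      ∑ j : Fin 8, (hi j : ℤ) * μ j ≤ 73 := by
  classical
  have hex : ∃ d : ℕ, ∃ μ : Fin 8 → ℤ, (∀ e, rcnt (fun s => (val μ s : ZMod 73)) e = c e) ∧
      (Qf μ - Hf μ).toNat = d := ⟨_, μ₀, h₀, rfl⟩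
  obtain ⟨μ, hc, hd⟩ := Nat.find_spec hex
  have hmin : ∀ ν : Fin 8 → ℤ, (∀ e, rcnt (fun s => (val ν s : ZMod 73)) e = c e) →
      Qf μ - Hf μ ≤ Qf ν - Hf ν := by
    intro ν hν
    have h1 := Nat.find_min' hex ⟨ν, hν, rfl⟩
    rw [← hd] at h1
    have := Hf_le μ
    have := Hf_le ν
    omega
  refine ⟨μ, hc, fun i => ?_, ?_⟩
  · by_contra hi0
    push Not at hi0
    let ν : Fin 8 → ℤ := fun j => μ j - cm i j * μ i
    have hv : ∀ s, val ν s = val μ (reflF i s) := by
      intro s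
      simp only [val, ν, rc_refl, mul_sub, sub_mul, ite_mul, zero_mul, Finset.sum_sub_distrib,
        Finset.sum_ite_eq', Finset.mem_univ, if_true, Finset.sum_mul, mul_assoc]
    let σ : Equiv.Perm (Fin 240) := (Function.Involutive.toPerm (reflF i) (reflF_inv i))
    have hQ : Qf ν = Qf μ := by
      simp only [Qf, hv]
      exact Equiv.sum_comp σ fun s => val μ s ^ 2
    have hH : Hf ν = Hf μ - 2 * μ i := by
      simp only [Hf, ν, mul_sub, Finset.sum_sub_distrib, ← mul_assoc, ← Finset.sum_mul, rho2_cm]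
    have hν : ∀ e, rcnt (fun s => (val ν s : ZMod 73)) e = c e := by
      intro e
      rw [← hc e, ← cnt_comp (fun s => (val μ s : ZMod 73)) σ e]
      simp only [hv]
      rfl
    have := hmin ν hν
    omega
  · by_contra hgt
    push Not at hgt
    let ν : Fin 8 → ℤ := fun j => μ j - if j = 7 then 73 else 0
    have hv : ∀ s, val ν s = val μ s - 73 * rc s (7 : Fin 8) := by
      intro s
      simp only [val, ν, mul_sub, Finset.sum_sub_distrib, mul_ite, mul_zero, Finset.sum_ite_eq',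
        Finset.mem_univ, if_true]
      rw [mul_comm]
    have hQ : Qf ν = Qf μ - 8760 * (∑ j : Fin 8, (hi j : ℤ) * μ j) + 639480 := by
      have hdot : ∑ s : Fin 240, val μ s * rc s (7 : Fin 8) = 60 * ∑ j : Fin 8, (hi j : ℤ) * μ j := by
        simp only [val, Finset.sum_mul]
        rw [Finset.sum_comm, Finset.mul_sum]
        refine Finset.sum_congr rfl fun j _ => ?_
        rw [← mul_assoc, ← hi_gram j, Finset.sum_mul]
        exact Finset.sum_congr rfl fun s _ => by ring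
      simp only [Qf, hv]
      rw [Finset.sum_congr rfl (fun s _ => (show (val μ s - 73 * rc s (7 : Fin 8)) ^ 2 =
          val μ s ^ 2 - 146 * (val μ s * rc s (7 : Fin 8)) + 5329 * (rc s (7 : Fin 8) * rc s (7 : Fin 8)) by ring)),
        Finset.sum_add_distrib, Finset.sum_sub_distrib, ← Finset.mul_sum, ← Finset.mul_sum, hdot, hi_norm.1]
      ring
    have hH : Hf ν = Hf μ - 4234 := by
      simp only [Hf, ν, mul_sub, Finset.sum_sub_distrib, mul_ite, mul_zero, Finset.sum_ite_eq',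
        Finset.mem_univ, if_true]
      rw [hi_norm.2]
      norm_num
    have hν : ∀ e, rcnt (fun s => (val ν s : ZMod 73)) e = c e := by
      intro e
      rw [← hc e]
      congr 1
      funext s
      rw [hv, Int.cast_sub, Int.cast_mul]
      rw [show ((73 : ℤ) : ZMod 73) = 0 by decide]
      ring
    have := hmin ν hν
    omega

theorem iota_eq (lam : Fin chevE8.rank → ZMod 73) (s : Fin 240) :
    iota chevE8 (ZMod 73) lam s =
      ∑ j : Fin 8, (rc s j : ZMod 73) * ∑ i : Fin 8, (cm i j : ZMod 73) * lam i := by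
  refine (iota_apply lam s).trans ?_
  show ∑ i : Fin 8, ((chevE8.cartan i s : ℤ) : ZMod 73) * lam i = _
  simp only [cartan_rc, Finset.mul_sum, Int.cast_sum, Int.cast_mul, Finset.sum_mul]
  rw [Finset.sum_comm]
  exact Finset.sum_congr rfl fun j _ => Finset.sum_congr rfl fun i _ => by ring

attribute [local irreducible] posTab admSet

theorem sum_map_eq {M : Type*} [AddCommMonoid M] (F : ℕ → M) :
    ∀ L : List ℕ, (L.map F).sum = ∑ k ∈ Finset.range L.length, F (L.getD k 0)
  | [] => by simp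
  | a :: L => by
    rw [List.map_cons, List.sum_cons, sum_map_eq F L, List.length_cons, Finset.sum_range_succ', add_comm]
    simp

/-- The value of a positive root at a point. -/
def dval (y : Fin 8 → ℕ) (a : ℕ) : ℕ := ∑ j : Fin 8, a / 16 ^ (j : ℕ) % 16 * y j

theorem sum_roots {M : Type*} [AddCommMonoid M] (y : Fin 8 → ℕ) (g : ℤ → M) :
    ∑ s : Fin 240, g (val (fun j => (y j : ℤ)) s) =
      (posTab.map fun a => g (dval y a) + g (-(dval y a : ℤ))).sum := by
  rw [sum_map_eq, posTab_len, Finset.sum_add_distrib]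
  have hpos : ∀ k, k < 120 → val (fun j => (y j : ℤ)) (Fin.ofNat 240 (120 + k)) = dval y (posTab.getD k 0) := by
    intro k hk
    have : ((Fin.ofNat 240 (120 + k) : Fin 240) : ℕ) = 120 + k := Nat.mod_eq_of_lt (by omega)
    simp only [val, this, rc, le_add_iff_nonneg_right, zero_le, if_true, Nat.add_sub_cancel_left, dval, coef,
      Nat.cast_sum, Nat.cast_mul]
  have hneg : ∀ k, k < 120 →
      val (fun j => (y j : ℤ)) (Fin.ofNat 240 (119 - k)) = -(dval y (posTab.getD k 0) : ℤ) := by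
    intro k hk
    have : ((Fin.ofNat 240 (119 - k) : Fin 240) : ℕ) = 119 - k := Nat.mod_eq_of_lt (by omega)
    simp only [val, this, rc, if_neg (show ¬ 120 ≤ 119 - k by omega), dval, coef,
      show 119 - (119 - k) = k by omega, Nat.cast_sum, Nat.cast_mul, neg_mul, Finset.sum_neg_distrib]
  rw [Finset.sum_congr rfl (fun k hk => congrArg g (hpos k (Finset.mem_range.1 hk)).symm),
    Finset.sum_congr rfl (s₁ := Finset.range 120) (f := fun k => g (-(dval y (posTab.getD k 0) : ℤ)))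
      (fun k hk => congrArg g (hneg k (Finset.mem_range.1 hk)).symm),
    Finset.sum_range_reflect (fun k => g (val (fun j => (y j : ℤ)) (Fin.ofNat 240 k))) 120, add_comm,
    ← Finset.sum_range_add (fun k => g (val (fun j => (y j : ℤ)) (Fin.ofNat 240 k))) 120 120,
    ← Fin.sum_univ_eq_sum_range (fun k => g (val (fun j => (y j : ℤ)) (Fin.ofNat 240 k))) 240]
  exact Finset.sum_congr rfl fun s _ => by rw [Fin.ofNat_val_eq_self]

theorem sum_fiber {M : Type*} [AddCommMonoid M] (g : Fin 240 → ZMod 73) (F : ZMod 73 → M) :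
    ∑ s, F (g s) = ∑ e, rcnt g e • F e := by
  rw [← Finset.sum_fiberwise Finset.univ g]
  refine Finset.sum_congr rfl fun e _ => ?_
  rw [rcnt, ← Finset.sum_const]
  exact Finset.sum_congr rfl fun s hs => by rw [(Finset.mem_filter.1 hs).2]

theorem packV_eq (y : Fin 8 → ℕ) : packV (y 0) (y 1) (y 2) (y 3) (y 4) (y 5) (y 6) (y 7) =
    ∑ k ∈ Finset.range 120, dval y (posTab.getD k 0) * 256 ^ k := by
  simp only [dval, Finset.sum_mul]
  rw [Finset.sum_comm]
  have h : ∀ j : Fin 8, ∑ k ∈ Finset.range 120, posTab.getD k 0 / 16 ^ (j : ℕ) % 16 * y j * 256 ^ k =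
      y j * colTab.getD j 0 := by
    intro j
    rw [← col_ok j, Finset.mul_sum]
    exact Finset.sum_congr rfl fun k _ => by ring
  simp only [h, Fin.sum_univ_eight]
  rfl

theorem land_split {a c : ℕ} (ha : a < 256) (hc : c < 256) (b d : ℕ) :
    (256 * b + a) &&& (256 * d + c) = 256 * (b &&& d) + (a &&& c) := by
  have hac : a &&& c < 2 ^ 8 := Nat.and_lt_two_pow a hc
  refine Nat.eq_of_testBit_eq fun i => ?_
  rw [show (256 : ℕ) = 2 ^ 8 from rfl, Nat.testBit_and, Nat.testBit_two_pow_mul_add _ ha,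
    Nat.testBit_two_pow_mul_add _ hc, Nat.testBit_two_pow_mul_add _ hac]
  split <;> simp [Nat.testBit_and]

theorem lanes_land (f g : ℕ → ℕ) : ∀ n, (∀ k, f k < 256) → (∀ k, g k < 256) →
    (∑ k ∈ Finset.range n, f k * 256 ^ k) &&& (∑ k ∈ Finset.range n, g k * 256 ^ k) =
      ∑ k ∈ Finset.range n, (f k &&& g k) * 256 ^ k := by
  intro n
  induction n generalizing f g with
  | zero => simp
  | succ n ih =>
    intro hf hg
    have hs : ∀ F : ℕ → ℕ, ∑ k ∈ Finset.range (n + 1), F k * 256 ^ k =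
        256 * (∑ k ∈ Finset.range n, F (k + 1) * 256 ^ k) + F 0 := by
      intro F
      rw [Finset.sum_range_succ', pow_zero, mul_one, Finset.mul_sum]
      congr 1
      exact Finset.sum_congr rfl fun k _ => by ring
    rw [hs f, hs g, hs (fun k => f k &&& g k), land_split (hf 0) (hg 0),
      ih (fun k => f (k + 1)) (fun k => g (k + 1)) (fun k => hf _) (fun k => hg _)]

theorem lanes_mod (f : ℕ → ℕ) : ∀ n,
    (∑ k ∈ Finset.range n, f k * 256 ^ k) % 255 = (∑ k ∈ Finset.range n, f k) % 255 := by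
  intro n
  induction n with
  | zero => rfl
  | succ n ih =>
    rw [Finset.sum_range_succ, Finset.sum_range_succ, Nat.add_mod, ih, Nat.mul_mod,
      show 256 ^ n % 255 = 1 by rw [Nat.pow_mod]; simp]
    simp [Nat.add_mod]

theorem geCount_def (V e : ℕ) : geCount V e = ((V + (128 - e) * ones) &&& tops) / 128 % 255 := by
  have h : ∀ o t : ℕ, Nat.mod (Nat.div (Nat.land (Nat.add V (Nat.mul (Nat.sub 128 e) o)) t) 128) 255 =
      ((V + (128 - e) * o) &&& t) / 128 % 255 := fun o t => rfl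
  exact h ones tops

theorem eqCount_def (V e : ℕ) : eqCount V e = geCount V e - geCount V (e + 1) := by
  have h : ∀ f : ℕ → ℕ, Nat.sub (f e) (f (Nat.succ e)) = f e - f (e + 1) := fun f => rfl
  exact h (geCount V)

theorem cval_zero (V : ℕ) : cval V 0 = 2 * (eqCount V 0 + eqCount V 73) := by
  have h : ∀ f : ℕ → ℕ, (bif Nat.beq 0 0 then Nat.mul 2 (Nat.add (f 0) (f 73))
      else Nat.add (f 0) (f (Nat.sub 73 0))) = 2 * (f 0 + f 73) := fun f => rfl
  exact h (eqCount V)

theorem cval_pos (V : ℕ) {e : ℕ} (he : e ≠ 0) : cval V e = eqCount V e + eqCount V (73 - e) := by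
  have h : ∀ f : ℕ → ℕ, (bif Nat.beq e 0 then Nat.mul 2 (Nat.add (f 0) (f 73))
      else Nat.add (f e) (f (Nat.sub 73 e))) = f e + f (73 - e) := fun f => by
    rw [show Nat.beq e 0 = false by
      rw [Bool.eq_false_iff]; intro hh; exact he (Nat.eq_of_beq_eq_true hh)]
    rfl
  exact h (eqCount V)

theorem geCount_eq (f : ℕ → ℕ) (hf : ∀ k, f k ≤ 73) {e : ℕ} (he : e ≤ 74) :
    geCount (∑ k ∈ Finset.range 120, f k * 256 ^ k) e =
      ∑ k ∈ Finset.range 120, (if e ≤ f k then 1 else 0) := by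
  rw [geCount_def]
  rw [← lanes_ok.1, ← lanes_ok.2, Finset.mul_sum, ← Finset.sum_add_distrib]
  rw [Finset.sum_congr rfl (g := fun k => (f k + (128 - e)) * 256 ^ k) (fun k _ => by ring),
    lanes_land (fun k => f k + (128 - e)) (fun _ => 128) 120 (fun k => by have := hf k; omega)
      (fun _ => by omega)]
  rw [Finset.sum_congr rfl (g := fun k => 128 * ((if e ≤ f k then 1 else 0) * 256 ^ k)) (fun k _ => by
      rw [top_bit _ (show f k + (128 - e) < 256 by have := hf k; omega)]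
      have := hf k
      split_ifs <;> omega), ← Finset.mul_sum]
  rw [Nat.mul_div_cancel_left _ (by norm_num), lanes_mod (fun k => if e ≤ f k then 1 else 0) 120]
  refine Nat.mod_eq_of_lt ?_
  refine lt_of_le_of_lt (Finset.sum_le_sum (g := fun _ => 1) fun k _ => ?_) (by simp)
  split <;> simp

theorem eqCount_eq (f : ℕ → ℕ) (hf : ∀ k, f k ≤ 73) {e : ℕ} (he : e ≤ 73) :
    eqCount (∑ k ∈ Finset.range 120, f k * 256 ^ k) e =
      ∑ k ∈ Finset.range 120, (if f k = e then 1 else 0) := by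
  rw [eqCount_def, geCount_eq f hf (by omega), geCount_eq f hf (by omega)]
  refine Nat.sub_eq_of_eq_add ?_
  rw [← Finset.sum_add_distrib]
  exact Finset.sum_congr rfl fun k _ => by split_ifs <;> omega

theorem cval_eq (y : Fin 8 → ℕ) (hd : ∀ k, dval y (posTab.getD k 0) ≤ 73) {e : ℕ} (he : e < 73) :
    cval (packV (y 0) (y 1) (y 2) (y 3) (y 4) (y 5) (y 6) (y 7)) e =
      rcnt (fun s => (val (fun j => (y j : ℤ)) s : ZMod 73)) (e : ZMod 73) := by
  rw [packV_eq, rcnt, Finset.card_filter,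
    sum_roots y (fun z => if ((z : ℤ) : ZMod 73) = (e : ZMod 73) then 1 else 0), sum_map_eq, posTab_len]
  simp only [Int.cast_natCast, Int.cast_neg]
  have key : ∀ k ∈ Finset.range 120,
      ((if (dval y (posTab.getD k 0) : ZMod 73) = e then 1 else 0) +
        if -(dval y (posTab.getD k 0) : ZMod 73) = e then 1 else 0 : ℕ) =
      if e = 0 then 2 * ((if dval y (posTab.getD k 0) = 0 then 1 else 0) +
          if dval y (posTab.getD k 0) = 73 then 1 else 0)
        else (if dval y (posTab.getD k 0) = e then 1 else 0) +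
          if dval y (posTab.getD k 0) = 73 - e then 1 else 0 :=
    fun k _ => value_hit ⟨_, Nat.lt_succ_of_le (hd k)⟩ ⟨e, he⟩
  rw [Finset.sum_congr rfl key]
  by_cases he0 : e = 0
  · subst he0
    rw [cval_zero, eqCount_eq _ hd (Nat.zero_le 73), eqCount_eq _ hd (le_refl 73)]
    simp only [if_true, Finset.mul_sum, mul_add, Finset.sum_add_distrib]
  · rw [cval_pos _ he0, eqCount_eq _ hd he.le, eqCount_eq _ hd (Nat.sub_le 73 e)]
    simp only [if_neg he0, Finset.sum_add_distrib]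

theorem loop_spec {k : ℕ → Bool} : ∀ {n : ℕ}, loop n k = true → ∀ x, 1 ≤ x → x ≤ n → k x = true
  | 0, _, x, h1, h2 => by omega
  | n + 1, h, x, h1, h2 => by
    have h' : (k (n + 1) && loop n k) = true := by
      simpa [loop, forceNat_eq] using h
    rw [Bool.and_eq_true] at h'
    rcases Nat.lt_or_eq_of_le h2 with h3 | h3
    · exact loop_spec h'.2 x h1 (by omega)
    · exact h3 ▸ h'.1

theorem loop_of {k : ℕ → Bool} : ∀ {n : ℕ}, (∀ x, 1 ≤ x → x ≤ n → k x = true) → loop n k = true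
  | 0, _ => rfl
  | n + 1, h => by
    have h' : (k (n + 1) && loop n k) = true := by
      rw [h (n + 1) (by omega) le_rfl, loop_of (n := n) fun x h1 h2 => h x h1 (by omega)]
      rfl
    simpa [loop, forceNat_eq] using h'

theorem part_spec {S lo len : ℕ} (h : part S lo len = true) {x : ℕ} (h1 : lo ≤ x) (h2 : x < lo + len) :
    rest x (Nat.sub 73 (Nat.mul 2 x)) (Nat.mod S (2 ^ 256)) = true := by
  simp only [part, forceNat_eq, List.all_eq_true, List.mem_range'_1] at h
  exact h x ⟨h1, h2⟩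

theorem search_ok : search admSet = true := by
  have hA := searchA_ok
  simp only [zeroPart, forceNat_eq] at hA
  simp only [search, step, forceNat_eq, Bool.and_eq_true, Bool.or_eq_true]
  refine ⟨Or.inr hA, Or.inr (loop_of fun x h1 h2 => ?_)⟩
  have h2 : x ≤ 36 := h2.trans (le_of_eq rfl)
  show rest x _ _ = true
  rcases le_or_gt x 2 with h | h
  · exact part_spec searchB_ok h1 (by omega)
  rcases le_or_gt x 5 with h' | h'
  · exact part_spec searchC_ok (by omega) (by omega)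
  rcases le_or_gt x 10 with h'' | h''
  · exact part_spec searchD_ok (by omega) (by omega)
  · exact part_spec searchE_ok (by omega) (by omega)

theorem step_spec {m h rem S : ℕ} {k : ℕ → ℕ → ℕ → Bool} (he : step m h rem S k = true) (x : ℕ)
    (hm : 0 < m) (hx : m * x ≤ rem) (t : ℕ) (ht : t < h)
    (hb : S.testBit ((bif Nat.beq x 0 then h else 0) + t) = true) :
    ∃ S', k x (rem - m * x) S' = true ∧ S'.testBit t = true := by
  simp only [step, forceNat_eq, Bool.and_eq_true, Bool.or_eq_true] at he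
  rcases Nat.eq_zero_or_pos x with rfl | hx0
  · rw [show Nat.beq 0 0 = true from rfl, cond_true] at hb
    have hb' : (S >>> h).testBit t = true := by rw [Nat.testBit_shiftRight]; exact hb
    refine ⟨S >>> h, ?_, hb'⟩
    rcases he.1 with h1 | h1
    · rw [show S >>> h = 0 from Nat.eq_of_beq_eq_true h1] at hb'
      simp at hb'
    · simpa using h1
  · rw [show Nat.beq x 0 = false by
      rw [Bool.eq_false_iff]; intro e; have := Nat.eq_of_beq_eq_true e; omega, cond_false, zero_add] at hb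
    have hb' : (S % 2 ^ h).testBit t = true := by rw [Nat.testBit_mod_two_pow]; simp [ht, hb]
    refine ⟨S % 2 ^ h, ?_, hb'⟩
    rcases he.2 with h1 | h1
    · rw [show S % 2 ^ h = 0 from Nat.eq_of_beq_eq_true h1] at hb'
      simp at hb'
    · exact loop_spec h1 x hx0 ((Nat.le_div_iff_mul_le hm).2 (by rw [mul_comm]; exact hx))

theorem search_spec {S : ℕ} (hS : search S = true) (y : Fin 8 → ℕ) (hy : ∑ j : Fin 8, hi j * y j ≤ 73)
    (hb : S.testBit (flagNum (Nat.beq (y 0) 0) (Nat.beq (y 1) 0) (Nat.beq (y 2) 0) (Nat.beq (y 3) 0)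
      (Nat.beq (y 4) 0) (Nat.beq (y 5) 0) (Nat.beq (y 6) 0) (Nat.beq (y 7) 0)
      (Nat.beq (73 - ∑ j : Fin 8, hi j * y j) 0)) = true)
    (hq : (∑ i : Fin 8, ∑ j : Fin 8, cinv i j * (y i * y j)) % 73 = 0) :
    full (packV (y 0) (y 1) (y 2) (y 3) (y 4) (y 5) (y 6) (y 7)) = true := by
  have hsum : ∑ j : Fin 8, hi j * y j =
      2 * y 0 + 3 * y 1 + 4 * y 2 + 6 * y 3 + 5 * y 4 + 4 * y 5 + 3 * y 6 + 2 * y 7 := by
    simp [Fin.sum_univ_eight, hi]
  rw [hsum] at hy hb
  simp only [search] at hS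
  unfold flagNum at hb
  have hbd : ∀ (b : Bool) (n : ℕ), (bif b then n else 0) ≤ n := fun b n => by cases b <;> simp
  obtain ⟨S0, h0, b0⟩ := step_spec hS (y 0) (by norm_num) (by omega) _ (by
    have := hbd (Nat.beq (y 1) 0) 128; have := hbd (Nat.beq (y 2) 0) 64; have := hbd (Nat.beq (y 3) 0) 32
    have := hbd (Nat.beq (y 4) 0) 16; have := hbd (Nat.beq (y 5) 0) 8; have := hbd (Nat.beq (y 6) 0) 4
    have := hbd (Nat.beq (y 7) 0) 2
    have := hbd (Nat.beq (73 - (2 * y 0 + 3 * y 1 + 4 * y 2 + 6 * y 3 + 5 * y 4 + 4 * y 5 + 3 * y 6 + 2 * y 7)) 0) 1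
    omega) hb
  simp only [rest, forceNat_eq] at h0
  obtain ⟨S1, h1, b1⟩ := step_spec h0 (y 1) (by norm_num) (by omega) _ (by
    have := hbd (Nat.beq (y 2) 0) 64; have := hbd (Nat.beq (y 3) 0) 32
    have := hbd (Nat.beq (y 4) 0) 16; have := hbd (Nat.beq (y 5) 0) 8; have := hbd (Nat.beq (y 6) 0) 4
    have := hbd (Nat.beq (y 7) 0) 2
    have := hbd (Nat.beq (73 - (2 * y 0 + 3 * y 1 + 4 * y 2 + 6 * y 3 + 5 * y 4 + 4 * y 5 + 3 * y 6 + 2 * y 7)) 0) 1
    omega) b0
  obtain ⟨S2, h2, b2⟩ := step_spec h1 (y 2) (by norm_num) (by omega) _ (by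
    have := hbd (Nat.beq (y 3) 0) 32
    have := hbd (Nat.beq (y 4) 0) 16; have := hbd (Nat.beq (y 5) 0) 8; have := hbd (Nat.beq (y 6) 0) 4
    have := hbd (Nat.beq (y 7) 0) 2
    have := hbd (Nat.beq (73 - (2 * y 0 + 3 * y 1 + 4 * y 2 + 6 * y 3 + 5 * y 4 + 4 * y 5 + 3 * y 6 + 2 * y 7)) 0) 1
    omega) b1
  obtain ⟨S3, h3, b3⟩ := step_spec h2 (y 3) (by norm_num) (by omega) _ (by
    have := hbd (Nat.beq (y 4) 0) 16; have := hbd (Nat.beq (y 5) 0) 8; have := hbd (Nat.beq (y 6) 0) 4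
    have := hbd (Nat.beq (y 7) 0) 2
    have := hbd (Nat.beq (73 - (2 * y 0 + 3 * y 1 + 4 * y 2 + 6 * y 3 + 5 * y 4 + 4 * y 5 + 3 * y 6 + 2 * y 7)) 0) 1
    omega) b2
  obtain ⟨S4, h4, b4⟩ := step_spec h3 (y 4) (by norm_num) (by omega) _ (by
    have := hbd (Nat.beq (y 5) 0) 8; have := hbd (Nat.beq (y 6) 0) 4
    have := hbd (Nat.beq (y 7) 0) 2
    have := hbd (Nat.beq (73 - (2 * y 0 + 3 * y 1 + 4 * y 2 + 6 * y 3 + 5 * y 4 + 4 * y 5 + 3 * y 6 + 2 * y 7)) 0) 1
    omega) b3
  obtain ⟨S5, h5, b5⟩ := step_spec h4 (y 5) (by norm_num) (by omega) _ (by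
    have := hbd (Nat.beq (y 6) 0) 4
    have := hbd (Nat.beq (y 7) 0) 2
    have := hbd (Nat.beq (73 - (2 * y 0 + 3 * y 1 + 4 * y 2 + 6 * y 3 + 5 * y 4 + 4 * y 5 + 3 * y 6 + 2 * y 7)) 0) 1
    omega) b4
  obtain ⟨S6, h6, b6⟩ := step_spec h5 (y 6) (by norm_num) (by omega) _ (by
    have := hbd (Nat.beq (y 7) 0) 2
    have := hbd (Nat.beq (73 - (2 * y 0 + 3 * y 1 + 4 * y 2 + 6 * y 3 + 5 * y 4 + 4 * y 5 + 3 * y 6 + 2 * y 7)) 0) 1
    omega) b5
  obtain ⟨S7, h7, b7⟩ := step_spec h6 (y 7) (by norm_num) (by omega) _ (by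
    have := hbd (Nat.beq (73 - (2 * y 0 + 3 * y 1 + 4 * y 2 + 6 * y 3 + 5 * y 4 + 4 * y 5 + 3 * y 6 + 2 * y 7)) 0) 1
    omega) b6
  have hrem : 73 - 2 * y 0 - 3 * y 1 - 4 * y 2 - 6 * y 3 - 5 * y 4 - 4 * y 5 - 3 * y 6 - 2 * y 7 =
      73 - (2 * y 0 + 3 * y 1 + 4 * y 2 + 6 * y 3 + 5 * y 4 + 4 * y 5 + 3 * y 6 + 2 * y 7) := by omega
  simp only [leaf, Bool.or_eq_true, Bool.not_eq_true'] at h7
  rcases h7 with (h8 | h8) | h8
  · exfalso
    rw [hrem] at h8
    rw [Nat.testBit_eq_decide_div_mod_eq, decide_eq_true_eq] at b7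
    generalize Nat.beq (73 - (2 * y 0 + 3 * y 1 + 4 * y 2 + 6 * y 3 + 5 * y 4 + 4 * y 5 + 3 * y 6 + 2 * y 7)) 0 = b
      at h8 b7
    refine Bool.eq_false_iff.1 h8 ?_
    rw [show ∀ n, Nat.mod (Nat.shiftRight S7 n) 2 = S7 / 2 ^ n % 2 from
        fun n => congrArg (· % 2) (Nat.shiftRight_eq_div_pow S7 n),
      show (Bool.rec 0 1 b : ℕ) = (bif b then 1 else 0) by cases b <;> rfl, b7]
    rfl
  · exfalso
    have hQ : (∑ i : Fin 8, ∑ j : Fin 8, cinv i j * (y i * y j)) = _ := rfl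
    simp only [Fin.sum_univ_eight] at hq
    simp [cinv] at hq
    rw [Bool.eq_false_iff] at h8
    refine h8 ?_
    rw [← hq]
    show Nat.beq _ _ = true
    rw [show ∀ a b : ℕ, (Nat.beq a b = true) = (a = b) from fun a b => by
      exact propext ⟨Nat.eq_of_beq_eq_true, fun e => e ▸ Nat.beq_refl _⟩]
    congr 1
    ring
  · exact h8

theorem flags_spec (y : Fin 8 → ℕ) (hy : ∑ j : Fin 8, hi j * y j ≤ 73) (b : ℕ → Bool)
    (hb : ∀ j : Fin 8, b j = Nat.beq (y j) 0) (hb8 : b 8 = Nat.beq (73 - ∑ j : Fin 8, hi j * y j) 0)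
    (a : ℕ) (ha : ∀ j : Fin 8, a / 16 ^ (j : ℕ) % 16 ≤ hi j) :
    vanishes b a = true ↔ (dval y a : ZMod 73) = 0 := by
  have hle : dval y a ≤ ∑ j : Fin 8, hi j * y j :=
    Finset.sum_le_sum fun j _ => Nat.mul_le_mul_right _ (ha j)
  have hlt : (dval y a : ZMod 73) = 0 ↔ dval y a = 0 ∨ dval y a = 73 := by
    rw [ZMod.natCast_eq_zero_iff]
    omega
  rw [hlt]
  have h0 : dval y a = 0 ↔ ∀ j : Fin 8, a / 16 ^ (j : ℕ) % 16 = 0 ∨ y j = 0 := by
    simp [dval, Finset.sum_eq_zero_iff]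
  have h73 : dval y a = 73 ↔ 73 - ∑ j : Fin 8, hi j * y j = 0 ∧
      ∀ j : Fin 8, a / 16 ^ (j : ℕ) % 16 = hi j ∨ y j = 0 := by
    constructor
    · intro h
      refine ⟨by omega, fun j => ?_⟩
      have := (Finset.sum_eq_sum_iff_of_le (fun j _ => Nat.mul_le_mul_right (y j) (ha j))).1
        (show dval y a = ∑ j : Fin 8, hi j * y j by omega) j (Finset.mem_univ _)
      exact mul_eq_mul_right_iff.1 this
    · rintro ⟨h1, h2⟩
      have : dval y a = ∑ j : Fin 8, hi j * y j :=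
        Finset.sum_congr rfl fun j _ => by
          rcases h2 j with h | h <;> simp [h]
      omega
  have hbeq : ∀ m n : ℕ, Nat.beq m n = true ↔ m = n :=
    fun m n => ⟨Nat.eq_of_beq_eq_true, fun e => e ▸ Nat.beq_refl _⟩
  rw [h0, h73]
  simp only [vanishes, Bool.or_eq_true, Bool.and_eq_true, List.all_eq_true, List.mem_range, hb8, hbeq,
    Fin.forall_iff]
  constructor
  · rintro (h | ⟨h1, h2⟩)
    · exact Or.inl fun i hi' => (h i hi').imp id fun hh => by
        rw [hb ⟨i, hi'⟩] at hh; exact (hbeq _ _).1 hh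
    · exact Or.inr ⟨h1, fun i hi' => (h2 i hi').imp id fun hh => by
        rw [hb ⟨i, hi'⟩] at hh; exact (hbeq _ _).1 hh⟩
  · rintro (h | ⟨h1, h2⟩)
    · exact Or.inl fun i hi' => (h i hi').imp id fun hh => by
        rw [hb ⟨i, hi'⟩]; exact (hbeq _ _).2 hh
    · exact Or.inr ⟨h1, fun i hi' => (h2 i hi').imp id fun hh => by
        rw [hb ⟨i, hi'⟩]; exact (hbeq _ _).2 hh⟩

theorem countP_eq_sum (P : ℕ → Bool) : ∀ L : List ℕ, L.countP P = (L.map fun a => bif P a then 1 else 0).sum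
  | [] => rfl
  | a :: L => by
    rw [List.countP_cons, countP_eq_sum P L, List.map_cons, List.sum_cons, add_comm]
    cases P a <;> simp

/-- Multiplication by three. -/
def mul3 : ZMod 73 ≃ ZMod 73 where
  toFun e := 3 * e
  invFun e := 49 * e
  left_inv e := by
    show 49 * (3 * e) = e
    rw [← mul_assoc, show (49 : ZMod 73) * 3 = 1 by decide, one_mul]
  right_inv e := by
    show 3 * (49 * e) = e
    rw [← mul_assoc, show (3 : ZMod 73) * 49 = 1 by decide, one_mul]

theorem mul3_apply (e : ZMod 73) : mul3 e = 3 * e := rfl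

set_option maxHeartbeats 1000000 in
theorem point_check (c : ZMod 73 → ℕ) (y : Fin 8 → ℕ) (hy : ∑ j : Fin 8, hi j * y j ≤ 73)
    (hc : ∀ e, rcnt (fun s => (val (fun j => (y j : ℤ)) s : ZMod 73)) e = c e)
    (hinv : ∀ e, c (3 * e) = c e) (h12 : 12 ≤ c 0) (h240 : c 0 < 240) :
    [8 + c 0, c 1, c 2, c 4, c 5, c 7, c 13] ∈ tgt73 := by
  classical
  set v : Fin 240 → ZMod 73 := fun s => (val (fun j => (y j : ℤ)) s : ZMod 73) with hv
  have htot : ∑ e, c e = 240 := by
    have := sum_fiber v (fun _ => (1 : ℕ))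
    simpa [hc] using this.symm
  have hsum : ∀ {M : Type} [AddCommMonoid M] (F : ZMod 73 → M), ∑ s, F (v s) = ∑ e, c e • F e :=
    fun F => by rw [sum_fiber v F]; exact Finset.sum_congr rfl fun e _ => by rw [hc]
  -- the number of vanishing roots is a multiple of twelve
  have hpow : ∀ (k : ℕ) (e : ZMod 73), c (3 ^ k * e) = c e := by
    intro k
    induction k with
    | zero => intro e; rw [pow_zero, one_mul]
    | succ k ih => intro e; rw [pow_succ', mul_assoc, hinv, ih]
  have hmod : c 0 % 12 = 0 := by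
    rw [orbit_decomp, Finset.sum_insert (by
        simp only [Finset.mem_image, not_exists, not_and]; exact fun p _ => orbit_ne p),
      Finset.sum_image (fun p _ q _ e => orbit_inj p q e), Fintype.sum_prod_type, Finset.sum_comm] at htot
    simp only [hpow, Finset.sum_const, Finset.card_univ, Fintype.card_fin, smul_eq_mul, ← Finset.mul_sum] at htot
    omega
  -- the quadratic form vanishes
  have hS : ∑ s, v s ^ 2 = 0 := by
    refine nine_mul _ ?_
    rw [hsum (fun e => e ^ 2), Finset.mul_sum]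
    refine Fintype.sum_equiv mul3 _ _ fun e => ?_
    rw [mul3_apply, hinv, nsmul_eq_mul, nsmul_eq_mul]
    ring
  have hq : (∑ i : Fin 8, ∑ j : Fin 8, cinv i j * (y i * y j)) % 73 = 0 := by
    have hQ : (Qf fun j => (y j : ℤ)) = 60 * ((∑ i : Fin 8, ∑ j : Fin 8, cinv i j * (y i * y j) : ℕ) : ℤ) := by
      rw [Nat.cast_sum, Finset.mul_sum]
      simp only [Qf, val, sq]
      rw [Finset.sum_congr rfl (fun s _ => Finset.sum_mul_sum _ _ _ _), Finset.sum_comm]
      refine Finset.sum_congr rfl fun i _ => ?_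
      rw [Nat.cast_sum, Finset.mul_sum, Finset.sum_comm]
      refine Finset.sum_congr rfl fun j _ => ?_
      rw [Nat.cast_mul, Nat.cast_mul, ← mul_assoc, ← gram i j, Finset.sum_mul]
      exact Finset.sum_congr rfl fun s _ => by ring
    have h2 : ((Qf fun j => (y j : ℤ)) : ZMod 73) = 0 := by
      rw [← hS, Qf, Int.cast_sum]
      exact Finset.sum_congr rfl fun s _ => by rw [Int.cast_pow]
    rw [hQ, ← Nat.cast_ofNat (n := 60), ← Nat.cast_mul, Int.cast_natCast, ZMod.natCast_eq_zero_iff] at h2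
    exact Nat.mod_eq_zero_of_dvd ((by norm_num : Nat.Coprime 73 60).dvd_of_dvd_mul_left h2)
  -- the set of zero coordinates is admissible
  set b : ℕ → Bool := fun j => [Nat.beq (y 0) 0, Nat.beq (y 1) 0, Nat.beq (y 2) 0, Nat.beq (y 3) 0,
    Nat.beq (y 4) 0, Nat.beq (y 5) 0, Nat.beq (y 6) 0, Nat.beq (y 7) 0,
    Nat.beq (73 - ∑ j : Fin 8, hi j * y j) 0].getD j false with hbdef
  have hcoef : ∀ a ∈ posTab, ∀ j : Fin 8, a / 16 ^ (j : ℕ) % 16 ≤ hi j := by
    intro a ha j
    obtain ⟨k, hk, rfl⟩ := List.getElem_of_mem ha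
    have := coef_le ⟨k, by rw [← posTab_len]; exact hk⟩ j
    rwa [coef, List.getD_eq_getElem _ _ hk] at this
  have hvan : vanCount b = c 0 := by
    rw [← hc 0, rcnt, Finset.card_filter,
      sum_roots y (fun z => if ((z : ℤ) : ZMod 73) = 0 then 1 else 0), vanCount, countP_eq_sum,
      ← List.sum_map_mul_left]
    refine congrArg List.sum (List.map_congr_left fun a ha => ?_)
    have hiff := flags_spec y hy b (fun j => by fin_cases j <;> rfl) rfl a (hcoef a ha)
    simp only [Int.cast_natCast, Int.cast_neg, neg_eq_zero]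
    cases hbool : vanishes b a with
    | true => rw [if_pos (hiff.1 hbool)]; rfl
    | false => rw [if_neg (fun h => by rw [hiff.2 h] at hbool; exact absurd hbool (by decide))]; rfl
  have hadm := adm_ok (b 0) (b 1) (b 2) (b 3) (b 4) (b 5) (b 6) (b 7) (b 8)
  rw [show (fun j => [b 0, b 1, b 2, b 3, b 4, b 5, b 6, b 7, b 8].getD j false) = b from rfl, hvan] at hadm
  have hbit : admSet.testBit (flagNum (b 0) (b 1) (b 2) (b 3) (b 4) (b 5) (b 6) (b 7) (b 8)) = true := by
    simp only [Bool.or_eq_true, Bool.not_eq_true', Bool.eq_false_iff, ne_eq, Nat.blt_eq] at hadm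
    rcases hadm with ((h | h) | h) | h
    · omega
    · omega
    · exact absurd (hmod ▸ Nat.beq_refl 0) h
    · exact h
  have hfull := search_spec search_ok y hy hbit hq
  -- the distribution
  have hd : ∀ k, dval y (posTab.getD k 0) ≤ 73 := by
    intro k
    rcases Nat.lt_or_ge k posTab.length with hk | hk
    · rw [List.getD_eq_getElem _ _ hk]
      exact (Finset.sum_le_sum fun j _ => Nat.mul_le_mul_right _ (hcoef _ (List.getElem_mem hk) j)).trans hy
    · rw [List.getD_eq_default _ _ hk]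
      simp [dval]
  have hcv : ∀ e : ℕ, e < 73 → cval (packV (y 0) (y 1) (y 2) (y 3) (y 4) (y 5) (y 6) (y 7)) e = c e :=
    fun e he => (cval_eq y hd he).trans (hc e)
  simp only [full, forceNat_eq, Bool.or_eq_true, List.any_eq_true, List.mem_range, Bool.not_eq_true',
    List.contains_iff_mem] at hfull
  rcases hfull with ⟨e, he, hne⟩ | hmem
  · rw [hcv e he, hcv (Nat.mod (Nat.mul 3 e) 73) (Nat.mod_lt _ (by norm_num))] at hne
    rw [show ((Nat.mod (Nat.mul 3 e) 73 : ℕ) : ZMod 73) = 3 * (e : ZMod 73) by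
      show (((3 * e) % 73 : ℕ) : ZMod 73) = _
      rw [ZMod.natCast_mod, Nat.cast_mul, Nat.cast_ofNat], hinv, Nat.beq_refl] at hne
    exact absurd hne (by decide)
  rw [hcv 0 (by omega), hcv 1 (by omega), hcv 2 (by omega), hcv 4 (by omega), hcv 5 (by omega),
    hcv 7 (by omega), hcv 13 (by omega)] at hmem
  exact_mod_cast hmem

end Cfsg.Agent.Lib.E8NoPSL3.Alcove

namespace Cfsg.Agent.Lib.E8NoPSL3

open Cfsg.Lie Alcove Cfsg.Agent.Lib.H59.Homocyclic

theorem alcoveFact : AlcoveStmt := by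
  intro lam c hinv h12 h240
  let μ₀ : Fin 8 → ℤ := fun j => ((∑ i : Fin 8, (cm i j : ZMod 73) * lam i).val : ℤ)
  have h0 : ∀ e, rcnt (fun s => (val μ₀ s : ZMod 73)) e = c e := by
    intro e
    show _ = (Finset.univ.filter fun s => iota chevE8 (ZMod 73) lam s = e).card
    unfold rcnt
    refine Finset.card_equiv (Equiv.refl (Fin 240)) fun s => ?_
    simp only [Finset.mem_filter, Finset.mem_univ, true_and]
    have h : (val μ₀ s : ZMod 73) = iota chevE8 (ZMod 73) lam s := by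
      refine Eq.trans ?_ (iota_eq lam s).symm
      rw [val, Int.cast_sum]
      exact Finset.sum_congr rfl fun j _ => by rw [Int.cast_mul, Int.cast_natCast, ZMod.natCast_zmod_val]
    exact Iff.of_eq (congrArg (· = e) h)
  obtain ⟨μ, hμ, hnn, hle⟩ := exists_alcove c μ₀ h0
  have hy : ((fun j => ((μ j).toNat : ℤ)) : Fin 8 → ℤ) = μ := funext fun j => Int.toNat_of_nonneg (hnn j)
  refine point_check c (fun j => (μ j).toNat) ?_ (by rw [hy]; exact hμ) hinv h12 h240
  have : ((∑ j : Fin 8, hi j * (μ j).toNat : ℕ) : ℤ) ≤ 73 := by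
    push_cast
    refine le_trans (le_of_eq (Finset.sum_congr rfl fun j _ => ?_)) hle
    rw [Int.toNat_of_nonneg (hnn j)]
  exact_mod_cast this

end Cfsg.Agent.Lib.E8NoPSL3
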