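import Cfsg.Agent.Lib.E8NoPSL3.AlcoveDefs

/-! Kernel checks of the tables of the roots of E₈. -/

set_option autoImplicit false
set_option maxRecDepth 20000

namespace Cfsg.Agent.Lib.E8NoPSL3.Alcove

open Cfsg.Lie

theorem posTab_len : posTab.length = 120 := by decide +kernel

theorem cartan_rc : ∀ (i : Fin 8) (s : Fin 240), chevE8.cartan i s = ∑ j : Fin 8, rc s j * cm i j := by
  decide +kernel

/-- The reflection as a map of the roots. -/
def reflF (i : Fin 8) (s : Fin 240) : Fin 240 := Fin.ofNat 240 (refl i s)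

theorem reflF_inv : ∀ (i : Fin 8) (s : Fin 240), reflF i (reflF i s) = s := by decide +kernel

theorem rc_refl : ∀ (i : Fin 8) (s : Fin 240) (j : Fin 8),
    rc (reflF i s) j = rc s j - (if j = i then (∑ l : Fin 8, rc s l * cm i l) else 0) := by decide +kernel

theorem rho2_eq : ∀ j : Fin 8, (∑ s : Fin 240, if 120 ≤ (s : ℕ) then rc s j else 0) = rho2 j := by
  decide +kernel

theorem rho2_cm : ∀ i : Fin 8, ∑ j : Fin 8, rho2 j * cm i j = 2 := by decide +kernel

theorem hi_gram : ∀ j : Fin 8, ∑ s : Fin 240, rc s (7 : Fin 8) * rc s j = 60 * (hi j : ℤ) := by decide +kernel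

theorem hi_norm : (∑ s : Fin 240, rc s (7 : Fin 8) * rc s (7 : Fin 8)) = 120 ∧ rho2 (7 : Fin 8) = 58 := by
  decide +kernel

theorem gram : ∀ i j : Fin 8, ∑ s : Fin 240, rc s i * rc s j = 60 * (cinv i j : ℤ) := by decide +kernel

theorem coef_le : ∀ (k : Fin 120) (j : Fin 8), coef k j ≤ hi j := by decide +kernel

/-- The roots vanishing at a point with the given zero affine coordinates. -/
def vanishes (b : ℕ → Bool) (a : ℕ) : Bool :=
  ((List.range 8).all fun j => Nat.beq (a / 16 ^ j % 16) 0 || b j) ||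
    (b 8 && (List.range 8).all fun j => Nat.beq (a / 16 ^ j % 16) (hi j) || b j)

/-- The number of the vanishing roots. -/
def vanCount (b : ℕ → Bool) : ℕ := 2 * posTab.countP (vanishes b)

/-- The number of a set of affine coordinates. -/
def flagNum (a b c d e f g h i : Bool) : ℕ :=
  (bif a then 256 else 0) + ((bif b then 128 else 0) + ((bif c then 64 else 0) + ((bif d then 32 else 0) +
    ((bif e then 16 else 0) + ((bif f then 8 else 0) + ((bif g then 4 else 0) + ((bif h then 2 else 0) +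
    (bif i then 1 else 0))))))))

theorem adm_ok : ∀ a b c d e f g h i : Bool,
    (Nat.blt (vanCount fun j => [a, b, c, d, e, f, g, h, i].getD j false) 12 ||
      !Nat.blt (vanCount fun j => [a, b, c, d, e, f, g, h, i].getD j false) 240 ||
      !Nat.beq ((vanCount fun j => [a, b, c, d, e, f, g, h, i].getD j false) % 12) 0 ||
      admSet.testBit (flagNum a b c d e f g h i)) = true := by
  decide +kernel

theorem orbit_decomp : (Finset.univ : Finset (ZMod 73)) =
    insert 0 ((Finset.univ : Finset (Fin 12 × Fin 6)).image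
      fun p => (3 : ZMod 73) ^ (p.1 : ℕ) * (([1, 2, 4, 5, 7, 13].getD p.2 0 : ℕ) : ZMod 73)) := by
  decide +kernel

theorem orbit_inj : ∀ p q : Fin 12 × Fin 6,
    ((3 : ZMod 73) ^ (p.1 : ℕ) * (([1, 2, 4, 5, 7, 13].getD p.2 0 : ℕ) : ZMod 73) =
      (3 : ZMod 73) ^ (q.1 : ℕ) * (([1, 2, 4, 5, 7, 13].getD q.2 0 : ℕ) : ZMod 73)) → p = q := by
  decide +kernel

theorem orbit_ne : ∀ p : Fin 12 × Fin 6,
    (3 : ZMod 73) ^ (p.1 : ℕ) * (([1, 2, 4, 5, 7, 13].getD p.2 0 : ℕ) : ZMod 73) ≠ 0 := by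
  decide +kernel

theorem col_ok : ∀ j : Fin 8,
    ∑ k ∈ Finset.range 120, posTab.getD k 0 / 16 ^ (j : ℕ) % 16 * 256 ^ k = colTab.getD j 0 := by
  decide +kernel

theorem lanes_ok : ∑ k ∈ Finset.range 120, 256 ^ k = ones ∧
    ∑ k ∈ Finset.range 120, 128 * 256 ^ k = tops := by
  decide +kernel

theorem top_bit : ∀ n : ℕ, n < 256 → n &&& 128 = if 128 ≤ n then 128 else 0 := by decide +kernel

theorem value_hit : ∀ (d : Fin 74) (e : Fin 73),
    ((if ((d : ℕ) : ZMod 73) = (e : ℕ) then 1 else 0) + if -((d : ℕ) : ZMod 73) = (e : ℕ) then 1 else 0 : ℕ) =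
      if (e : ℕ) = 0 then 2 * ((if (d : ℕ) = 0 then 1 else 0) + if (d : ℕ) = 73 then 1 else 0)
        else (if (d : ℕ) = (e : ℕ) then 1 else 0) + if (d : ℕ) = 73 - (e : ℕ) then 1 else 0 := by
  decide +kernel

theorem nine_mul : ∀ a : ZMod 73, 9 * a = a → a = 0 := by decide +kernel

end Cfsg.Agent.Lib.E8NoPSL3.Alcove
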