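import Cfsg.Agent.Lib.E8NoPSL3.Iface

/-!
Tensor products of Frobenius twists of symmetric powers (degree at most two) of the natural module of SL₂.
-/

set_option autoImplicit false

namespace Cfsg.Agent.Lib.E8NoPSL3

open Matrix
open scoped MatrixGroups

section Sym

variable {R : Type*} [CommRing R]

/-- The symmetric power of degree at most two of a two by two matrix. -/
def sym : (a : Fin 3) → Matrix (Fin 2) (Fin 2) R → Matrix (Fin (a.val + 1)) (Fin (a.val + 1)) R
  | ⟨0, _⟩, _ => 1
  | ⟨1, _⟩, g => g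
  | ⟨2, _⟩, g => !![g 0 0 ^ 2, g 0 0 * g 0 1, g 0 1 ^ 2;
      2 * g 0 0 * g 1 0, g 0 0 * g 1 1 + g 0 1 * g 1 0, 2 * g 0 1 * g 1 1;
      g 1 0 ^ 2, g 1 0 * g 1 1, g 1 1 ^ 2]
  | ⟨_ + 3, h⟩, _ => absurd h (by omega)

theorem sym_mul (a : Fin 3) (g h : Matrix (Fin 2) (Fin 2) R) : sym a (g * h) = sym a g * sym a h := by
  fin_cases a
  · exact (one_mul _).symm
  · rfl
  · ext i j
    fin_cases i <;> fin_cases j <;>
      simp [sym, Matrix.mul_apply, Fin.sum_univ_two, Fin.sum_univ_three] <;> ring

theorem sym_one (a : Fin 3) : sym a (1 : Matrix (Fin 2) (Fin 2) R) = 1 := by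
  fin_cases a
  · rfl
  · rfl
  · ext i j
    fin_cases i <;> fin_cases j <;> simp [sym]

theorem sym_diag (a : Fin 3) (u v : R) :
    sym a (Matrix.diagonal ![u, v]) = Matrix.diagonal fun k => u ^ (a.val - k.val) * v ^ k.val := by
  fin_cases a
  · ext i j; fin_cases i; fin_cases j; simp [sym]
  · ext i j; fin_cases i <;> fin_cases j <;> simp [sym]
  · ext i j; fin_cases i <;> fin_cases j <;> simp [sym]

theorem sym_upper_row (a : Fin 3) (x : R) (l : Fin (a.val + 1)) :
    sym a !![1, x; 0, 1] (Fin.last _) l = if l = Fin.last _ then 1 else 0 := by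
  fin_cases a
  · fin_cases l; simp [sym, Matrix.one_apply]
  · fin_cases l <;> simp [sym, Fin.last]
  · fin_cases l <;> simp [sym, Fin.last]

theorem sym_upper_col (a : Fin 3) (x : R) (k : Fin (a.val + 1)) :
    sym a !![1, x; 0, 1] k 0 = if k = 0 then 1 else 0 := by
  fin_cases a
  · fin_cases k; simp [sym, Matrix.one_apply]
  · fin_cases k <;> simp [sym]
  · fin_cases k <;> simp [sym]

theorem sym_lower_row (a : Fin 3) (x : R) (l : Fin (a.val + 1)) :
    sym a !![1, 0; x, 1] (Fin.last _) l = x ^ (a.val - l.val) := by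
  fin_cases a
  · fin_cases l; simp [sym, Matrix.one_apply]
  · fin_cases l <;> simp [sym, Fin.last]
  · fin_cases l <;> simp [sym, Fin.last]

theorem sym_lower_col (a : Fin 3) (x : R) (k : Fin (a.val + 1)) :
    sym a !![1, 0; x, 1] k 0 = (Nat.choose a.val k.val : R) * x ^ k.val := by
  fin_cases a
  · fin_cases k; simp [sym, Matrix.one_apply]
  · fin_cases k <;> simp [sym]
  · fin_cases k <;> simp [sym] <;> ring

end Sym

section Tens

variable {K : Type*} [Field K] [CharP K 3] {f : ℕ}

/-- The index set. -/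
abbrev Ix (a : Fin f → Fin 3) : Type := (i : Fin f) → Fin ((a i).val + 1)

/-- The tensor product of the twisted symmetric powers. -/
def tens (a : Fin f → Fin 3) (g : Matrix (Fin 2) (Fin 2) K) : Matrix (Ix a) (Ix a) K :=
  Matrix.of fun k l => ∏ i, sym (a i) (g.map (iterateFrobenius K 3 i.val)) (k i) (l i)

theorem zpow_sum' {ι G : Type*} [Fintype ι] [CommGroup G] (u : G) (w : ι → ℤ) : u ^ (∑ i, w i) = ∏ i, u ^ w i :=
  map_prod (zpowersHom G u) (fun i => Multiplicative.ofAdd (w i)) Finset.univ

theorem tens_mul (a : Fin f → Fin 3) (g h : Matrix (Fin 2) (Fin 2) K) : tens a (g * h) = tens a g * tens a h := by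
  ext k m
  rw [Matrix.mul_apply]
  simp only [tens, Matrix.of_apply, ← Finset.prod_mul_distrib]
  refine Eq.trans ?_ (Fintype.prod_sum fun i (j : Fin ((a i).val + 1)) =>
    sym (a i) (g.map (iterateFrobenius K 3 i.val)) (k i) j *
      sym (a i) (h.map (iterateFrobenius K 3 i.val)) j (m i))
  refine Finset.prod_congr rfl fun i _ => ?_
  rw [Matrix.map_mul, sym_mul, Matrix.mul_apply]

theorem tens_one (a : Fin f → Fin 3) : tens a (1 : Matrix (Fin 2) (Fin 2) K) = 1 := by
  ext k l
  simp only [tens, Matrix.of_apply, Matrix.map_one _ (map_zero _) (map_one _), sym_one]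
  by_cases h : k = l
  · subst h; simp
  · obtain ⟨i, hi⟩ := Function.ne_iff.1 h
    rw [Matrix.one_apply_ne h]
    exact Finset.prod_eq_zero (Finset.mem_univ i) (Matrix.one_apply_ne hi)

/-- The weights. -/
def wt (a : Fin f → Fin 3) (k : Ix a) : ℤ := ∑ i, (((a i).val : ℤ) - 2 * ((k i).val : ℤ)) * 3 ^ i.val

theorem tens_diag (a : Fin f → Fin 3) (u : Kˣ) :
    tens a (Matrix.diagonal ![(u : K), ((u⁻¹ : Kˣ) : K)]) = Matrix.diagonal fun k => ((u ^ wt a k : Kˣ) : K) := by
  ext k l
  have e : ∀ i : Fin f, (Matrix.diagonal ![(u : K), ((u⁻¹ : Kˣ) : K)]).map (iterateFrobenius K 3 i.val) =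
      Matrix.diagonal ![((u ^ 3 ^ i.val : Kˣ) : K), ((u⁻¹ ^ 3 ^ i.val : Kˣ) : K)] := by
    intro i
    rw [Matrix.diagonal_map (map_zero _)]
    congr 1
    funext j
    fin_cases j <;> simp [iterateFrobenius_def]
  simp only [tens, Matrix.of_apply, e, sym_diag]
  by_cases h : k = l
  · subst h
    simp only [Matrix.diagonal_apply_eq, ← Units.val_pow_eq_pow_val, ← Units.val_mul, ← Units.coe_prod]
    congr 1
    rw [wt, zpow_sum']
    refine Finset.prod_congr rfl fun i _ => ?_
    have hk : (k i).val ≤ (a i).val := Nat.le_of_lt_succ (k i).2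
    rw [← pow_mul, ← pow_mul, inv_pow, ← zpow_natCast, ← zpow_natCast, ← _root_.zpow_neg, ← _root_.zpow_add]
    congr 1
    push_cast [Nat.cast_sub hk]
    ring
  · obtain ⟨i, hi⟩ := Function.ne_iff.1 h
    rw [Matrix.diagonal_apply_ne _ h]
    exact Finset.prod_eq_zero (Finset.mem_univ i) (Matrix.diagonal_apply_ne _ hi)

/-- The index of the highest weight. -/
def hi (a : Fin f → Fin 3) : Ix a := fun _ => 0

/-- The index of the lowest weight. -/
def lo (a : Fin f → Fin 3) : Ix a := fun i => Fin.last (a i).val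

theorem map_upper (x : K) (i : ℕ) :
    (!![1, x; 0, 1] : Matrix (Fin 2) (Fin 2) K).map (iterateFrobenius K 3 i) = !![1, x ^ 3 ^ i; 0, 1] := by
  ext p q
  fin_cases p <;> fin_cases q <;> simp [iterateFrobenius_def]

theorem map_lower (x : K) (i : ℕ) :
    (!![1, 0; x, 1] : Matrix (Fin 2) (Fin 2) K).map (iterateFrobenius K 3 i) = !![1, 0; x ^ 3 ^ i, 1] := by
  ext p q
  fin_cases p <;> fin_cases q <;> simp [iterateFrobenius_def]

theorem tens_upper_row (a : Fin f → Fin 3) (x : K) (l : Ix a) :
    tens a !![1, x; 0, 1] (lo a) l = if l = lo a then 1 else 0 := by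
  simp only [tens, Matrix.of_apply, map_upper]
  by_cases h : l = lo a
  · subst h
    simp [lo, sym_upper_row]
  · obtain ⟨i, hi⟩ := Function.ne_iff.1 h
    rw [if_neg h]
    refine Finset.prod_eq_zero (Finset.mem_univ i) ?_
    rw [show lo a i = Fin.last _ from rfl, sym_upper_row]
    exact if_neg hi

theorem tens_upper_col (a : Fin f → Fin 3) (x : K) (k : Ix a) :
    tens a !![1, x; 0, 1] k (hi a) = if k = hi a then 1 else 0 := by
  simp only [tens, Matrix.of_apply, map_upper]
  by_cases h : k = hi a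
  · subst h
    simp [hi, sym_upper_col]
  · obtain ⟨i, hne⟩ := Function.ne_iff.1 h
    rw [if_neg h]
    refine Finset.prod_eq_zero (Finset.mem_univ i) ?_
    rw [show hi a i = 0 from rfl, sym_upper_col]
    exact if_neg hne

theorem tens_lower_row (a : Fin f → Fin 3) (x : K) (l : Ix a) :
    tens a !![1, 0; x, 1] (lo a) l = x ^ ∑ i, ((a i).val - (l i).val) * 3 ^ i.val := by
  simp only [tens, Matrix.of_apply, map_lower, lo, sym_lower_row, ← pow_mul, Finset.prod_pow_eq_pow_sum]
  congr 1
  exact Finset.sum_congr rfl fun i _ => mul_comm _ _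

theorem tens_lower_col (a : Fin f → Fin 3) (x : K) (k : Ix a) :
    tens a !![1, 0; x, 1] k (hi a) =
      (∏ i, (Nat.choose (a i).val (k i).val : K)) * x ^ ∑ i, (k i).val * 3 ^ i.val := by
  simp only [tens, Matrix.of_apply, map_lower, hi, sym_lower_col, Finset.prod_mul_distrib, ← pow_mul,
    Finset.prod_pow_eq_pow_sum]
  congr 2
  exact Finset.sum_congr rfl fun i _ => mul_comm _ _

theorem coef_ne_zero (a : Fin f → Fin 3) (k : Ix a) : (∏ i, (Nat.choose (a i).val (k i).val : K)) ≠ 0 := by
  refine Finset.prod_ne_zero_iff.2 fun i _ h => ?_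
  rw [CharP.cast_eq_zero_iff K 3] at h
  have h1 := (a i).2
  have h2 := (k i).2
  revert h h1 h2
  generalize hy : (k i).val = y
  generalize hx : (a i).val = x
  intro h h1 h2
  interval_cases x <;> interval_cases y <;> revert h <;> decide

/-- Base three digits determine the number. -/
theorem digits_inj : ∀ {f : ℕ} {k l : Fin f → ℕ}, (∀ i, k i < 3) → (∀ i, l i < 3) →
    ∑ i, k i * 3 ^ i.val = ∑ i, l i * 3 ^ i.val → k = l
  | 0, k, l, _, _, _ => funext fun i => i.elim0
  | f + 1, k, l, hk, hl, h => by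
    simp only [Fin.sum_univ_succ, Fin.val_zero, pow_zero, mul_one, Fin.val_succ, pow_succ, ← mul_assoc,
      ← Finset.sum_mul] at h
    have h0 : k 0 = l 0 := by have := hk 0; have := hl 0; omega
    have h1 := digits_inj (fun i => hk i.succ) (fun i => hl i.succ) (show _ = _ by omega)
    funext i
    exact Fin.cases h0 (fun j => congrFun h1 j) i

theorem digits_lt : ∀ {f : ℕ} {k : Fin f → ℕ}, (∀ i, k i < 3) → ∑ i, k i * 3 ^ i.val < 3 ^ f
  | 0, k, _ => by simp
  | f + 1, k, hk => by
    simp only [Fin.sum_univ_succ, Fin.val_zero, pow_zero, mul_one, Fin.val_succ, pow_succ, ← mul_assoc,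
      ← Finset.sum_mul]
    have := digits_lt (f := f) (k := fun i => k i.succ) fun i => hk i.succ
    have := hk 0
    omega

/-- The weights as a list. -/
theorem wts_eq : ∀ {f : ℕ} (a : Fin f → Fin 3),
    ((wts (List.ofFn fun i => (a i).val) : List ℤ) : Multiset ℤ) = (Finset.univ : Finset (Ix a)).val.map (wt a)
  | 0, a => by
    simp [wts, wt]
  | f + 1, a => by
    have ih := wts_eq fun i => a i.succ
    rw [List.ofFn_succ, wts, ← Multiset.coe_bind, ih]
    have e : (Finset.univ : Finset (Ix a)) = (Finset.univ : Finset (Fin ((a 0).val + 1) × Ix fun i => a i.succ)).map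
        (Fin.consEquiv fun i => Fin ((a i).val + 1)).toEmbedding := (Finset.map_univ_equiv _).symm
    rw [e, Finset.map_val, Multiset.map_map, ← Finset.univ_product_univ, Finset.product_val]
    show _ = Multiset.map _ (Multiset.product _ _)
    rw [Multiset.product, Multiset.map_bind, Multiset.bind_map]
    simp only [Multiset.map_map]
    rw [Multiset.bind_map_comm]
    refine Multiset.bind_congr fun l _ => ?_
    rw [show (Finset.univ : Finset (Fin ((a 0).val + 1))).val = ((List.finRange ((a 0).val + 1) : List _) : Multiset _)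
      from rfl, Multiset.map_coe, ← List.map_coe_finRange_eq_range, List.map_map]
    refine congrArg _ (List.map_congr_left fun k _ => ?_)
    simp only [Function.comp_apply, wt, Fin.sum_univ_succ, Fin.val_zero, pow_zero, mul_one, Fin.val_succ,
      Fin.consEquiv_apply, Fin.cons_zero, Fin.cons_succ, Equiv.toEmbedding_apply, Finset.mul_sum]
    congr 1
    refine Finset.sum_congr rfl fun i _ => ?_
    ring

open scoped Classical in
theorem cnt_wts {a : Fin f → Fin 3} (p : ℤ → Prop) :
    cnt (wts (List.ofFn fun i => (a i).val)) p = (Finset.univ.filter fun k : Ix a => p (wt a k)).card := by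
  unfold cnt
  rw [← Multiset.coe_countP, wts_eq, Multiset.countP_map, Finset.card_def, Finset.filter_val]

theorem length_wts (a : Fin f → Fin 3) :
    (wts (List.ofFn fun i => (a i).val)).length = Fintype.card (Ix a) := by
  rw [← Multiset.coe_card, wts_eq, Multiset.card_map]; rfl

end Tens

end Cfsg.Agent.Lib.E8NoPSL3
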