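import Cfsg.Agent.Lib.E8NoPSL3.Chain
import Cfsg.Agent.Lib.E8NoPSL3.Tensor

/-!
Elements of SL₂ over a finite field of characteristic three, functions on the group, and a semi-invariant functional
on a simple section.
-/

set_option autoImplicit false

namespace Cfsg.Agent.Lib.E8NoPSL3

open scoped MatrixGroups

variable {F : Type*} [Field F]

/-- An upper unitriangular element. -/
def UU (x : F) : SL(2, F) := ⟨!![1, x; 0, 1], by simp [Matrix.det_fin_two]⟩

/-- A lower unitriangular element. -/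
def LL (x : F) : SL(2, F) := ⟨!![1, 0; x, 1], by simp [Matrix.det_fin_two]⟩

/-- A diagonal element. -/
def TT (t : Fˣ) : SL(2, F) := ⟨!![(t : F), 0; 0, ((t⁻¹ : Fˣ) : F)], by simp [Matrix.det_fin_two]⟩

/-- The Weyl element. -/
def WW : SL(2, F) := ⟨!![0, 1; -1, 0], by simp [Matrix.det_fin_two]⟩

theorem coe_UU (x : F) : (UU x : Matrix (Fin 2) (Fin 2) F) = !![1, x; 0, 1] := rfl

theorem coe_LL (x : F) : (LL x : Matrix (Fin 2) (Fin 2) F) = !![1, 0; x, 1] := rfl

theorem coe_TT (t : Fˣ) : (TT t : Matrix (Fin 2) (Fin 2) F) = !![(t : F), 0; 0, ((t⁻¹ : Fˣ) : F)] := rfl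

theorem coe_WW : ((WW : SL(2, F)) : Matrix (Fin 2) (Fin 2) F) = !![0, 1; -1, 0] := rfl

theorem UU_add (x y : F) : UU x * UU y = UU (x + y) := by
  apply Matrix.SpecialLinearGroup.ext
  intro i j; fin_cases i <;> fin_cases j <;> simp [coe_UU, Matrix.SpecialLinearGroup.coe_mul, Matrix.mul_apply, Fin.sum_univ_two, add_comm]

theorem UU_zero : UU (0 : F) = 1 := by
  apply Matrix.SpecialLinearGroup.ext
  intro i j; fin_cases i <;> fin_cases j <;> simp [coe_UU]

theorem TT_mul (s t : Fˣ) : TT s * TT t = TT (s * t) := by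
  apply Matrix.SpecialLinearGroup.ext
  intro i j; fin_cases i <;> fin_cases j <;> simp [coe_TT, Matrix.SpecialLinearGroup.coe_mul, Matrix.mul_apply, Fin.sum_univ_two, mul_comm]

theorem TT_one : TT (1 : Fˣ) = 1 := by
  apply Matrix.SpecialLinearGroup.ext
  intro i j; fin_cases i <;> fin_cases j <;> simp [coe_TT]

theorem TT_pow (t : Fˣ) : ∀ k : ℕ, TT t ^ k = TT (t ^ k)
  | 0 => by rw [pow_zero, pow_zero, TT_one]
  | k + 1 => by rw [pow_succ, pow_succ, TT_pow t k, TT_mul]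

theorem TT_UU (t : Fˣ) (x : F) : TT t * UU x = UU ((t : F) * t * x) * TT t := by
  apply Matrix.SpecialLinearGroup.ext
  intro i j; fin_cases i <;> fin_cases j <;> simp [coe_TT, coe_UU, Matrix.SpecialLinearGroup.coe_mul, Matrix.mul_apply, Fin.sum_univ_two] <;> field_simp

theorem WUW_zero : WW * UU (0 : F) * WW = TT (-1) := by
  apply Matrix.SpecialLinearGroup.ext
  intro i j; fin_cases i <;> fin_cases j <;> simp [coe_UU, coe_TT, coe_WW, Matrix.SpecialLinearGroup.coe_mul, Matrix.mul_apply, Fin.sum_univ_two]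

theorem WUW (y : Fˣ) : WW * UU (y : F) * WW =
    UU (-(y⁻¹ : Fˣ) : F) * TT (-y⁻¹) * WW * UU (-(y⁻¹ : Fˣ) : F) := by
  apply Matrix.SpecialLinearGroup.ext
  intro i j; fin_cases i <;> fin_cases j <;>
    simp [coe_UU, coe_TT, coe_WW, Matrix.SpecialLinearGroup.coe_mul, Matrix.mul_apply, Fin.sum_univ_two] <;> field_simp [y.ne_zero]

theorem bruhat (g : SL(2, F)) : (∃ x t, g = UU x * TT t) ∨ ∃ x t y, g = UU x * TT t * WW * UU y := by
  have hdet := g.2
  rw [Matrix.det_fin_two] at hdet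
  by_cases hc : g.1 1 0 = 0
  · rw [hc, mul_zero, sub_zero] at hdet
    have ha : g.1 0 0 ≠ 0 := left_ne_zero_of_mul_eq_one hdet
    refine Or.inl ⟨g.1 0 1 * g.1 0 0, Units.mk0 _ ha, Matrix.SpecialLinearGroup.ext _ _ fun i j => ?_⟩
    fin_cases i <;> fin_cases j <;> simp [coe_UU, coe_TT, Matrix.SpecialLinearGroup.coe_mul, Matrix.mul_apply, Fin.sum_univ_two, hc]
    · field_simp [ha]
    · exact eq_inv_of_mul_eq_one_right hdet
  · refine Or.inr ⟨g.1 0 0 / g.1 1 0, Units.mk0 (-(g.1 1 0)⁻¹) (neg_ne_zero.2 (inv_ne_zero hc)),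
      g.1 1 1 / g.1 1 0, Matrix.SpecialLinearGroup.ext _ _ fun i j => ?_⟩
    fin_cases i <;> fin_cases j <;> simp [coe_UU, coe_TT, coe_WW, Matrix.SpecialLinearGroup.coe_mul, Matrix.mul_apply, Fin.sum_univ_two]
    all_goals field_simp [hc]
    all_goals first | linear_combination hdet | linear_combination -hdet

/-- The translations of functions on a group. -/
def trans (G : Type*) [Group G] (K : Type*) [Field K] : G →* Module.End K (G → K) where
  toFun g := LinearMap.funLeft K K fun x => x * g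
  map_one' := by refine LinearMap.ext fun f => funext fun x => ?_; simp [LinearMap.funLeft_apply]
  map_mul' a b := by refine LinearMap.ext fun f => funext fun x => ?_; simp [LinearMap.funLeft_apply, mul_assoc]

theorem trans_apply {G : Type*} [Group G] {K : Type*} [Field K] (g : G) (f : G → K) (x : G) :
    trans G K g f x = f (x * g) := rfl

theorem exists_fixed {ι K V : Type*} [Fintype ι] [Field K] [CharP K 3] [AddCommGroup V] [Module K V]
    (A : ι → Module.End K V) (hcomm : ∀ x y, A x * A y = A y * A x) (h3 : ∀ x, A x ^ 3 = 1) {D : Submodule K V}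
    (hD : D ≠ ⊥) (hst : ∀ x, ∀ v ∈ D, A x v ∈ D) : ∃ v ∈ D, v ≠ 0 ∧ ∀ x, A x v = v := by
  classical
  suffices H : ∀ s : Finset ι, ∃ v ∈ D, v ≠ 0 ∧ ∀ x ∈ s, A x v = v by
    obtain ⟨v, h1, h2, h⟩ := H Finset.univ
    exact ⟨v, h1, h2, fun x => h x (Finset.mem_univ x)⟩
  intro s
  induction s using Finset.induction_on with
  | empty =>
    obtain ⟨v, hv, hv0⟩ := Submodule.exists_mem_ne_zero_of_ne_bot hD
    exact ⟨v, hv, hv0, by simp⟩
  | @insert a s ha ih =>
    obtain ⟨v, hv, hv0, hfix⟩ := ih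
    set B : Module.End K V := A a - 1 with hB
    have hBD : ∀ w ∈ D, B w ∈ D := fun w hw => D.sub_mem (hst a w hw) hw
    have hBfix : ∀ w, (∀ x ∈ s, A x w = w) → ∀ x ∈ s, A x (B w) = B w := by
      intro w hw x hx
      have e := LinearMap.congr_fun (hcomm x a) w
      rw [Module.End.mul_apply, Module.End.mul_apply, hw x hx] at e
      simp only [hB, LinearMap.sub_apply, Module.End.one_apply, map_sub, e, hw x hx]
    have hB3 : ∀ w, B (B (B w)) = 0 := by
      intro w
      have e : A a (A a (A a w)) = w := LinearMap.congr_fun (h3 a) w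
      have h30 : (3 : K) = 0 := by exact_mod_cast CharP.cast_eq_zero K 3
      simp only [hB, LinearMap.sub_apply, Module.End.one_apply, map_sub, e]
      calc _ = (3 : K) • (A a w - A a (A a w)) := by module
        _ = 0 := by rw [h30, zero_smul]
    have done' : ∀ w ∈ D, w ≠ 0 → (∀ x ∈ s, A x w = w) → B w = 0 →
        ∃ v ∈ D, v ≠ 0 ∧ ∀ x ∈ insert a s, A x v = v := by
      intro w hw hw0 hwfix hBw
      refine ⟨w, hw, hw0, fun x hx => ?_⟩
      rcases Finset.mem_insert.1 hx with rfl | hx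
      · exact sub_eq_zero.1 hBw
      · exact hwfix x hx
    by_cases h1 : B v = 0
    · exact done' v hv hv0 hfix h1
    by_cases h2 : B (B v) = 0
    · exact done' _ (hBD v hv) h1 (hBfix v hfix) h2
    · exact done' _ (hBD _ (hBD v hv)) h2 (hBfix _ (hBfix v hfix)) (hB3 v)

variable [Fintype F] [DecidableEq F] {f : ℕ} {K : Type*} [Field K] [CharP K 3] [IsAlgClosed K]

theorem UU_pow_three (hf : Fintype.card F = 3 ^ f) (x : F) : UU x ^ 3 = 1 := by
  haveI : CharP F 3 := by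
    obtain ⟨p, hp⟩ := CharP.exists F
    haveI := hp
    obtain ⟨k, hpp, hk⟩ := FiniteField.card F p
    have : p = 3 := by
      refine (Nat.prime_dvd_prime_iff_eq hpp Nat.prime_three).1 (hpp.dvd_of_dvd_pow (n := f) ?_)
      rw [← hf, hk]; exact dvd_pow_self p k.ne_zero
    exact this ▸ hp
  rw [pow_succ, pow_succ, pow_one, UU_add, UU_add]
  have : x + x + x = 0 := by
    have h30 : (3 : F) = 0 := by exact_mod_cast CharP.cast_eq_zero F 3
    linear_combination x * h30
  rw [this, UU_zero]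

/-- A semi-invariant functional on a simple section. -/
theorem exists_functional (hf : Fintype.card F = 3 ^ f) (ι : F →+* K) {V : Type*} [AddCommGroup V] [Module K V]
    [FiniteDimensional K V] (R : SL(2, F) →* Module.End K V) {N L : Submodule K V} (hN : Stable R N)
    (hL : Stable R L) (hlt : N < L) :
    ∃ (φ : V →ₗ[K] K) (e : ℕ), e < 3 ^ f - 1 ∧ (∀ v ∈ N, φ v = 0) ∧ (∃ v ∈ L, φ v ≠ 0) ∧
      (∀ x, ∀ v ∈ L, φ (R (UU x) v) = φ v) ∧ ∀ t : Fˣ, ∀ v ∈ L, φ (R (TT t) v) = ι (t : F) ^ e * φ v := by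
  classical
  let RL : SL(2, F) → Module.End K ↥L := fun g => (R g).restrict (hL g)
  have hRL : ∀ a b, RL (a * b) = RL a * RL b := fun a b => LinearMap.ext fun v => Subtype.ext (by
    show R (a * b) v.1 = R a (R b v.1)
    rw [map_mul, Module.End.mul_apply])
  have hRL1 : RL 1 = 1 := LinearMap.ext fun v => Subtype.ext (by show R 1 v.1 = v.1; rw [map_one]; rfl)
  let D0 : Submodule K (Module.Dual K ↥L) := (N.comap L.subtype).dualAnnihilator
  have hD0 : D0 ≠ ⊥ := by
    intro h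
    rw [Submodule.dualAnnihilator_eq_bot_iff, Submodule.comap_subtype_eq_top] at h
    exact not_le_of_gt hlt h
  have hst : ∀ g, ∀ ψ ∈ D0, (RL g).dualMap ψ ∈ D0 := by
    intro g ψ hψ
    rw [Submodule.mem_dualAnnihilator] at hψ ⊢
    intro w hw
    exact hψ _ (hN g w.1 hw)
  obtain ⟨ψ0, hψ0, hψ0ne, hψ0fix⟩ := exists_fixed (fun x : F => (RL (UU x)).dualMap)
    (fun x y => LinearMap.ext fun ψ => LinearMap.ext fun v => by
      show ψ (RL (UU y) (RL (UU x) v)) = ψ (RL (UU x) (RL (UU y) v))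
      rw [← Module.End.mul_apply, ← hRL, UU_add, add_comm, ← UU_add, hRL, Module.End.mul_apply])
    (fun x => LinearMap.ext fun ψ => LinearMap.ext fun v => by
      show ψ (RL (UU x) (RL (UU x) (RL (UU x) v))) = ψ v
      have : RL (UU x) * RL (UU x) * RL (UU x) = 1 := by
        rw [← hRL, ← hRL, ← hRL1, ← UU_pow_three hf x, pow_succ, pow_succ, pow_one]
      exact congrArg ψ (LinearMap.congr_fun this v))
    hD0 (fun x => hst (UU x))
  let D1 : Submodule K (Module.Dual K ↥L) := D0 ⊓ ⨅ x : F, LinearMap.ker ((RL (UU x)).dualMap - 1)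
  have hmem1 : ∀ ψ, ψ ∈ D1 ↔ ψ ∈ D0 ∧ ∀ x, (RL (UU x)).dualMap ψ = ψ := fun ψ => by
    simp [D1, sub_eq_zero]
  obtain ⟨g0, hg0⟩ := IsCyclic.exists_generator (α := Fˣ)
  have hstT : ∀ ψ ∈ D1, (RL (TT g0)).dualMap ψ ∈ D1 := by
    intro ψ hψ
    obtain ⟨h0, hfx⟩ := (hmem1 ψ).1 hψ
    refine (hmem1 _).2 ⟨hst _ ψ h0, fun x => LinearMap.ext fun v => ?_⟩
    show ψ (RL (TT g0) (RL (UU x) v)) = ψ (RL (TT g0) v)
    rw [← Module.End.mul_apply, ← hRL, TT_UU, hRL, Module.End.mul_apply]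
    exact LinearMap.congr_fun (hfx _) _
  haveI : Nontrivial ↥D1 := Submodule.nontrivial_iff_ne_bot.2 fun h => hψ0ne (by
    have := (hmem1 ψ0).2 ⟨hψ0, hψ0fix⟩
    rwa [h, Submodule.mem_bot] at this)
  obtain ⟨c, hc⟩ := Module.End.exists_eigenvalue (K := K) (V := ↥D1)
    (((RL (TT g0)).dualMap.restrict hstT : Module.End K ↥D1))
  obtain ⟨⟨ψ, hψ⟩, hψe⟩ := hc.exists_hasEigenvector
  have hψne : ψ ≠ 0 := fun h => hψe.2 (Subtype.ext h)
  have hψT : ∀ v, ψ (RL (TT g0) v) = c * ψ v := fun v => by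
    have := congrArg Subtype.val hψe.apply_eq_smul
    exact LinearMap.congr_fun this v
  obtain ⟨hψ0', hψfix⟩ := (hmem1 ψ).1 hψ
  have hψTk : ∀ (k : ℕ) v, ψ (RL (TT (g0 ^ k)) v) = c ^ k * ψ v := by
    intro k
    induction k with
    | zero => intro v; rw [pow_zero, TT_one, hRL1, Module.End.one_apply, pow_zero, one_mul]
    | succ k ih =>
      intro v
      rw [pow_succ, ← TT_mul, hRL, Module.End.mul_apply, ih, hψT, pow_succ, mul_assoc]
  have hq : Fintype.card Fˣ = 3 ^ f - 1 := by rw [Fintype.card_units, hf]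
  have hord : orderOf g0 = 3 ^ f - 1 := by
    rw [orderOf_eq_card_of_forall_mem_zpowers hg0, Nat.card_eq_fintype_card, hq]
  have hq0 : 0 < 3 ^ f - 1 := by rw [← hq]; exact Fintype.card_pos
  have hcq : c ^ (3 ^ f - 1) = 1 := by
    obtain ⟨v, hv⟩ : ∃ v, ψ v ≠ 0 := by
      by_contra! h
      exact hψne (LinearMap.ext h)
    have := hψTk (3 ^ f - 1) v
    rw [← hord, pow_orderOf_eq_one, TT_one, hRL1, Module.End.one_apply, hord] at this
    exact mul_right_cancel₀ hv (this.symm.trans (one_mul _).symm)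
  haveI : NeZero (3 ^ f - 1) := ⟨hq0.ne'⟩
  have hprim : IsPrimitiveRoot (ι (g0 : F)) (3 ^ f - 1) := by
    rw [← hord]
    exact ((IsPrimitiveRoot.orderOf g0).map_of_injective (f := Units.coeHom F) Units.val_injective).map_of_injective
      ι.injective
  obtain ⟨e, he, hce⟩ := hprim.eq_pow_of_pow_eq_one hcq
  obtain ⟨φ, hφ⟩ := LinearMap.exists_extend ψ
  have hφL : ∀ (v : V) (hv : v ∈ L), φ v = ψ ⟨v, hv⟩ := fun v hv => LinearMap.congr_fun hφ ⟨v, hv⟩
  refine ⟨φ, e, he, fun v hv => ?_, ?_, fun x v hv => ?_, fun t v hv => ?_⟩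
  · rw [hφL v (hlt.le hv)]
    exact (Submodule.mem_dualAnnihilator _).1 hψ0' ⟨v, hlt.le hv⟩ hv
  · by_contra! h
    exact hψne (LinearMap.ext fun v => by rw [← hφL v.1 v.2]; exact h v.1 v.2)
  · rw [hφL _ (hL _ v hv), hφL v hv]
    exact LinearMap.congr_fun (hψfix x) ⟨v, hv⟩
  · obtain ⟨k, rfl⟩ := mem_powers_iff_mem_zpowers.2 (hg0 t)
    have := hψTk k ⟨v, hv⟩
    rw [hφL _ (hL _ v hv), hφL v hv, Units.val_pow_eq_pow_val, map_pow, ← pow_mul, mul_comm k e, pow_mul, hce]
    exact this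

end Cfsg.Agent.Lib.E8NoPSL3
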