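import Cfsg.Agent.Lib.E8NoPSL3.CertBasic
import Cfsg.Agent.Lib.E8NoPSL3.CertData243
import Cfsg.Agent.Lib.E8NoPSL3.CertData729

/-!
The finite computations behind S5922, checked by the kernel.
-/

set_option autoImplicit false
set_option maxRecDepth 20000

namespace Cfsg.Agent.Lib.E8NoPSL3

open Cfsg.Lie Cfsg.Agent.Lib.H59.Homocyclic CertComp

namespace CertComp

/-- The table for the field with 243 elements. -/
def rows243 : List Row := rows243p0 ++ rows243p1

/-- The table for the field with 729 elements. -/
def rows729 : List Row := rows729p0 ++ rows729p1 ++ rows729p2 ++ rows729p3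

theorem rows243_ok : rows243.all (rowOK 121) = true := by decide +kernel

theorem rows243_check : rows243.all (blockCheck 121 81 [] gens243) = true := by decide +kernel

theorem rows243_all :
    rows243.map (fun p => p.1) = (allA 5).filter fun a => decide (2 ∣ a.sum) := by decide +kernel

theorem big243_check :
    big243.all (fun p => check 2 250 p.2 gens243 p.1) = true ∧ big243.map (fun p => p.1) = [[248, 112], [248, 128]] := by
  decide +kernel

theorem rows729_ok : rows729.all (rowOK 73) = true := by decide +kernel

theorem rows729p0_check : rows729p0.all (blockCheck 73 49 [0, 1, 2, 4, 5, 7, 13] gens729) = true := by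
  decide +kernel

theorem rows729p1_check : rows729p1.all (blockCheck 73 49 [0, 1, 2, 4, 5, 7, 13] gens729) = true := by
  decide +kernel

theorem rows729p2_check : rows729p2.all (blockCheck 73 49 [0, 1, 2, 4, 5, 7, 13] gens729) = true := by
  decide +kernel

theorem rows729p3_check : rows729p3.all (blockCheck 73 49 [0, 1, 2, 4, 5, 7, 13] gens729) = true := by
  decide +kernel

theorem rows729_check : rows729.all (blockCheck 73 49 [0, 1, 2, 4, 5, 7, 13] gens729) = true := by
  simp only [rows729, List.all_append, rows729p0_check, rows729p1_check, rows729p2_check, rows729p3_check,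
    Bool.and_true]

theorem rows729_all :
    rows729.map (fun p => p.1) = (allA 6).filter fun a => decide (2 ∣ a.sum) := by decide +kernel

theorem gens729_check :
    gens729.all (fun u => decide (u.take 3 ∈ proj729 ∧ u.getD 2 0 ≤ u.getD 0 0 ∧
      (u.getD 0 0 - u.getD 2 0) % 12 = 0)) = true := by
  decide +kernel

theorem small729_check :
    small729.all (fun p => check 3 250 p.2 proj729 p.1) = true ∧
      small729.map (fun p => p.1) = [[248, 112, 8], [248, 128, 8]] := by
  decide +kernel

theorem big729_check :
    big729.all (fun p => check 9 250 p.2 gens729 p.1) = true ∧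
      big729.map (fun p => p.1) = [112, 128].flatMap fun m => tgt73.map fun t => 248 :: m :: t := by
  decide +kernel

/-- A vector with a verified tree is no sum of generators. -/
theorem noSum_of_mem {k fuel : ℕ} {G : List (List ℕ)} {data : List (List ℕ × STree)}
    (h : data.all (fun p => check k fuel p.2 G p.1) = true) {r : List ℕ}
    (hr : r ∈ data.map fun p => p.1) : NoSum k G r := by
  obtain ⟨p, hp, rfl⟩ := List.mem_map.1 hr
  exact check_sound fuel p.2 G p.1 (List.all_eq_true.1 h p hp)

/-- Both projections of a sum of generators have the same residue modulo twelve. -/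
theorem sum_mod_twelve : ∀ M : List (List ℕ), (∀ u ∈ M, u ∈ gens729) →
    (M.map (·.getD 0 0)).sum % 12 = (M.map (·.getD 2 0)).sum % 12
  | [], _ => rfl
  | u :: M, h => by
    have h1 := List.all_eq_true.1 gens729_check u (h u List.mem_cons_self)
    simp only [decide_eq_true_eq] at h1
    have h2 := sum_mod_twelve M fun w hw => h w (List.mem_cons_of_mem _ hw)
    obtain ⟨-, hle, hmod⟩ := h1
    simp only [List.map_cons, List.sum_cons]
    omega

theorem le_of_sum {L : List (List ℕ × ℕ)}
    (h : (L.map fun b => b.2 * (wts b.1).length).sum = 248) :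
    ∀ b ∈ L, b.2 * (wts b.1).length ≤ 248 := fun b hb =>
  h ▸ List.single_le_sum (fun _ _ => Nat.zero_le _) _ (List.mem_map.2 ⟨b, hb, rfl⟩)

end CertComp

theorem cert243 : Cert243Stmt := by
  intro L hL hdim
  obtain ⟨M, hMG, hM0, hM1, -⟩ := exists_sum (n := 121) (inv := 81) (f := 5) (by norm_num) (by norm_num) []
    gens243 rows243 rows243_ok rows243_check rows243_all L hL (le_of_sum hdim)
  have key : ∀ m, [248, m] ∈ big243.map (fun p => p.1) → (L.map blkMinus).sum ≠ m := fun m hm hsum =>
    noSum_of_mem big243_check.1 hm M hMG fun c hc => by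
      interval_cases c
      · simpa using hM0.trans hdim
      · simpa using hM1.trans hsum
  exact ⟨key 112 (by rw [big243_check.2]; simp), key 128 (by rw [big243_check.2]; simp)⟩

theorem cert729 : Cert729Stmt := by
  intro L hL hdim hm
  obtain ⟨M, hMG, hM0, hM1, hMc⟩ := exists_sum (n := 73) (inv := 49) (f := 6) (by norm_num) (by norm_num)
    [0, 1, 2, 4, 5, 7, 13] gens729 rows729 rows729_ok rows729_check rows729_all L hL (le_of_sum hdim)
  rw [hdim] at hM0
  refine ⟨?_, fun hmem => ?_⟩
  · have h0 := hMc 0 (by norm_num)
    have hmod := sum_mod_twelve M hMG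
    simp only [List.getD_cons_zero, Nat.zero_add] at h0
    rw [hM0, h0] at hmod
    by_contra hlt
    have h8 : (L.map fun b => blk 73 b 0).sum = 8 := by omega
    have hr : [248, (L.map blkMinus).sum, 8] ∈ small729.map (fun p => p.1) := by
      rw [small729_check.2]
      rcases hm with h | h <;> simp [h]
    refine noSum_of_mem small729_check.1 hr (M.map (·.take 3)) (fun v hv => ?_) fun c hc => ?_
    · obtain ⟨u, hu, rfl⟩ := List.mem_map.1 hv
      exact (of_decide_eq_true (List.all_eq_true.1 gens729_check u (hMG u hu))).1
    · have hget : (M.map (·.take 3)).map (·.getD c 0) = M.map (·.getD c 0) := by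
        rw [List.map_map]
        refine List.map_congr_left fun u _ => ?_
        simp [List.getD, hc]
      rw [hget]
      interval_cases c
      · simpa using hM0
      · simpa using hM1
      · exact h0.trans h8
  · have hr : 248 :: (L.map blkMinus).sum ::
        ([0, 1, 2, 4, 5, 7, 13].map fun e : ℕ => (L.map fun b => blk 73 b e).sum) ∈
          big729.map (fun p => p.1) := by
      rw [big729_check.2]
      refine List.mem_flatMap.2 ⟨(L.map blkMinus).sum, ?_, List.mem_map.2 ⟨_, hmem, rfl⟩⟩
      rcases hm with h | h <;> simp [h]
    refine noSum_of_mem big729_check.1 hr M hMG fun c hc => ?_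
    match c with
    | 0 => simpa using hM0
    | 1 => simpa using hM1
    | c + 2 =>
      rw [hMc c (by simp only [List.length_cons, List.length_nil]; omega)]
      have hc7 : c < 7 := by omega
      interval_cases c <;> rfl

end Cfsg.Agent.Lib.E8NoPSL3
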