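import Cfsg.Agent.Lib.E8NoPSL3.IfaceCert

/-!
Checkers for the finite computations behind S5922: packed histograms of weights, and search trees showing
that a vector is no sum of given vectors.
-/

set_option autoImplicit false

namespace Cfsg.Agent.Lib.E8NoPSL3.CertComp

/-- A search tree: a coordinate and one subtree for each candidate with positive value there. -/
inductive Forest where
  /-- No tree. -/
  | nil : Forest
  /-- A tree, given by its coordinate and subtrees, followed by more trees. -/
  | cons : ℕ → Forest → Forest → Forest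

/-- A tree: its coordinate and its subtrees. -/
abbrev STree := ℕ × Forest

/-- `u` fits below `r`. -/
def fits (k : ℕ) (u r : List ℕ) : Bool := (List.range k).all fun c => Nat.ble (u.getD c 0) (r.getD c 0)

/-- Componentwise difference. -/
def diff (k : ℕ) (r u : List ℕ) : List ℕ := (List.range k).map fun c => r.getD c 0 - u.getD c 0

/-- The branches: the candidate is used, or it is excluded from all later branches. -/
def branches (f : STree → List (List ℕ) → List ℕ → Bool) (k : ℕ) (r : List ℕ) :
    Forest → List (List ℕ) → List (List ℕ) → Bool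
  | .nil, [], _ => true
  | .cons c kids ts, u :: us, G => f (c, kids) G (diff k r u) && branches f k r ts us (G.filter (· != u))
  | _, _, _ => false

/-- Verification of a search tree. -/
def check (k : ℕ) : ℕ → STree → List (List ℕ) → List ℕ → Bool
  | 0, _, _, _ => false
  | fuel + 1, (c, ts), G, r => decide (c < k) && decide (0 < r.getD c 0) &&
      branches (check k fuel) k r ts (G.filter fun u => decide (0 < u.getD c 0) && fits k u r) G

/-- No list with entries in `G` has sum `r`. -/
def NoSum (k : ℕ) (G : List (List ℕ)) (r : List ℕ) : Prop :=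
  ∀ M : List (List ℕ), (∀ u ∈ M, u ∈ G) → ¬ ∀ c < k, (M.map (·.getD c 0)).sum = r.getD c 0

theorem getD_diff {k c : ℕ} (r u : List ℕ) (h : c < k) :
    (diff k r u).getD c 0 = r.getD c 0 - u.getD c 0 := by
  simp [diff, List.getD, h]

theorem branches_sound {k : ℕ} {f : STree → List (List ℕ) → List ℕ → Bool}
    (hf : ∀ t G r, f t G r = true → NoSum k G r) {r : List ℕ} :
    ∀ (ts : Forest) (us G : List (List ℕ)), branches f k r ts us G = true →
      ∀ M : List (List ℕ), (∀ u ∈ M, u ∈ G) → (∃ u ∈ M, u ∈ us) →
        ¬ ∀ c < k, (M.map (·.getD c 0)).sum = r.getD c 0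
  | .nil, [], _, _, M, _, ⟨u, _, hu⟩ => by simp at hu
  | .nil, _ :: _, _, h, _, _, _ => by simp [branches] at h
  | .cons _ _ _, [], _, h, _, _, _ => by simp [branches] at h
  | .cons c kids ts, u :: us, G, h, M, hM, ⟨v, hvM, hv⟩ => by
    rw [branches, Bool.and_eq_true] at h
    intro hsum
    by_cases hu : u ∈ M
    · refine hf _ _ _ h.1 (M.erase u) (fun w hw => hM w (List.mem_of_mem_erase hw)) fun c hc => ?_
      have hperm := ((List.perm_cons_erase hu).map (·.getD c 0)).sum_eq
      rw [hsum c hc, List.map_cons, List.sum_cons] at hperm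
      rw [getD_diff _ _ hc]
      omega
    · refine branches_sound hf ts us _ h.2 M (fun w hw => ?_) ⟨v, hvM, ?_⟩ hsum
      · refine List.mem_filter.2 ⟨hM w hw, ?_⟩
        simpa using fun e : w = u => hu (e ▸ hw)
      · exact (List.mem_cons.1 hv).resolve_left fun e => hu (e ▸ hvM)

theorem check_sound {k : ℕ} : ∀ (fuel : ℕ) (t : STree) (G : List (List ℕ)) (r : List ℕ),
    check k fuel t G r = true → NoSum k G r
  | 0, _, _, _, h => by simp [check] at h
  | fuel + 1, (c, ts), G, r, h => by
    simp only [check, Bool.and_eq_true, decide_eq_true_eq] at h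
    obtain ⟨⟨hc, hr⟩, hb⟩ := h
    intro M hM hsum
    obtain ⟨u, huM, hu⟩ : ∃ u ∈ M, 0 < u.getD c 0 := by
      by_contra hno
      push Not at hno
      have h0 : (M.map (·.getD c 0)).sum = 0 := by
        apply List.sum_eq_zero
        intro x hx
        obtain ⟨u, hu, rfl⟩ := List.mem_map.1 hx
        exact Nat.le_zero.1 (hno u hu)
      rw [hsum c hc] at h0
      omega
    refine branches_sound (check_sound fuel) ts _ G hb M hM
      ⟨u, huM, List.mem_filter.2 ⟨hM u huM, ?_⟩⟩ hsum
    simp only [Bool.and_eq_true, decide_eq_true_eq, fits, List.all_eq_true, Nat.ble_eq, List.mem_range]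
    refine ⟨hu, fun d hd => ?_⟩
    rw [← hsum d hd]
    exact List.single_le_sum (fun _ _ => Nat.zero_le _) _ (List.mem_map.2 ⟨u, huM, rfl⟩)

/-- A histogram packed in base 256. -/
def pack : List ℕ → ℕ
  | [] => 0
  | r :: rs => 256 ^ r + pack rs

/-- A digit of a packed histogram. -/
def dig (R e : ℕ) : ℕ := (R >>> (8 * e)) % 256

/-- The residues of the halved weights. -/
def resid (n : ℕ) (a : List ℕ) : List ℕ := (wts a).map fun w => ((w / 2) % (n : ℤ)).toNat

theorem pack_split : ∀ l : List ℕ,
    pack l = l.count 0 + 256 * pack ((l.filter (· != 0)).map (· - 1))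
  | [] => rfl
  | 0 :: rs => by
    rw [pack, pack_split rs]
    simp
    omega
  | (r + 1) :: rs => by
    rw [pack, pack_split rs]
    simp [pack, pow_succ]
    ring

theorem count_pred (l : List ℕ) (e : ℕ) :
    ((l.filter (· != 0)).map (· - 1)).count e = l.count (e + 1) := by
  induction l with
  | nil => rfl
  | cons r rs ih =>
    rcases r with _ | r
    · simpa [List.count_cons] using ih
    · simp [List.count_cons, ih]

theorem dig_pack : ∀ (e : ℕ) (l : List ℕ), l.length < 256 → dig (pack l) e = l.count e
  | 0, l, h => by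
    rw [dig, pack_split, Nat.mul_zero, Nat.shiftRight_zero, Nat.add_mul_mod_self_left, Nat.mod_eq_of_lt]
    exact lt_of_le_of_lt List.count_le_length h
  | e + 1, l, h => by
    have h' : ((l.filter (· != 0)).map (· - 1)).length < 256 := by
      rw [List.length_map]
      exact lt_of_le_of_lt (List.length_filter_le _ _) h
    rw [dig, show 8 * (e + 1) = 8 + 8 * e by ring, Nat.shiftRight_add, pack_split,
      Nat.shiftRight_eq_div_pow _ 8, show (2 : ℕ) ^ 8 = 256 from rfl, Nat.add_mul_div_left _ _ (by norm_num),
      Nat.div_eq_of_lt (lt_of_le_of_lt List.count_le_length h), Nat.zero_add, ← dig,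
      dig_pack e _ h', count_pred]

theorem res_eq {n inv : ℕ} (hn : 0 < n) (hinv : inv * 3 % n = 1) {a : List ℕ}
    (hlen : (wts a).length < 256) (i e : ℕ) :
    res n a i e = dig (pack (resid n a)) ((e * inv ^ i) % n) := by
  rw [dig_pack _ _ (by rw [resid, List.length_map]; exact hlen), resid, List.count_eq_countP,
    List.countP_map, res]
  refine List.countP_congr fun w _ => ?_
  have : NeZero n := ⟨hn.ne'⟩
  have hu : (inv : ZMod n) * 3 = 1 := by
    have h : ((inv * 3 % n : ℕ) : ZMod n) = ((1 : ℕ) : ZMod n) := by rw [hinv]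
    rw [ZMod.natCast_mod] at h
    simpa using h
  have hu' : ∀ x : ZMod n, x * inv ^ i * 3 ^ i = x := fun x => by
    rw [mul_assoc, ← mul_pow, hu, one_pow, mul_one]
  have hnn : (0 : ℤ) ≤ (w / 2) % (n : ℤ) := Int.emod_nonneg _ (by exact_mod_cast hn.ne')
  simp only [decide_eq_true_eq, Function.comp, beq_iff_eq]
  rw [← ZMod.intCast_eq_intCast_iff' (c := n)]
  constructor
  · intro h
    push_cast at h
    have h2 : (((w / 2 : ℤ)) : ZMod n) = (e : ZMod n) * (inv : ZMod n) ^ i := by
      rw [← h, mul_assoc, ← mul_pow, mul_comm (3 : ZMod n), hu, one_pow, mul_one]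
    have h3 : (((((w / 2) % (n : ℤ))).toNat : ℕ) : ZMod n) = ((e * inv ^ i : ℕ) : ZMod n) := by
      rw [← Int.cast_natCast, Int.toNat_of_nonneg hnn, ZMod.intCast_mod, h2]
      push_cast
      rfl
    have h4 := congrArg ZMod.val h3
    rw [ZMod.val_natCast, ZMod.val_natCast] at h4
    rwa [Nat.mod_eq_of_lt] at h4
    rw [Int.toNat_lt hnn]
    exact Int.emod_lt_of_pos _ (by exact_mod_cast hn)
  · intro h
    have h3 : (((w / 2 : ℤ)) : ZMod n) = (e : ZMod n) * (inv : ZMod n) ^ i := by
      have h5 := congrArg (fun x : ℕ => (x : ZMod n)) h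
      simp only [ZMod.natCast_mod] at h5
      rw [← Int.cast_natCast, Int.toNat_of_nonneg hnn, ZMod.intCast_mod] at h5
      simpa using h5
    push_cast
    rw [h3, hu']

/-- All digit lists of the given length. -/
def allA : ℕ → List (List ℕ)
  | 0 => [[]]
  | f + 1 => [0, 1, 2].flatMap fun x => (allA f).map (x :: ·)

theorem mem_allA : ∀ {f : ℕ} {a : List ℕ}, a.length = f → (∀ x ∈ a, x ≤ 2) → a ∈ allA f
  | 0, [], _, _ => by simp [allA]
  | f + 1, x :: as, h, h2 => by
    have := h2 x (by simp)
    simp only [allA, List.mem_flatMap, List.mem_map]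
    exact ⟨x, by simp; omega, as, mem_allA (by simpa using h) (fun y hy => h2 y (by simp [hy])), rfl⟩

/-- A row of the table: digits, dimension, negative eigenvalues, packed histogram. -/
abbrev Row := List ℕ × ℕ × ℕ × ℕ

/-- Verification of a row. -/
def rowOK (n : ℕ) (p : Row) : Bool :=
  Nat.beq (wts p.1).length p.2.1 && Nat.beq p.2.2.2 (pack (resid n p.1)) &&
    Nat.beq p.2.2.1 ((wts p.1).countP fun w => decide ((w / 2) % 2 = 1))

/-- The vector of a block. -/
def vec (n inv : ℕ) (cols : List ℕ) (p : Row) (d : ℕ) : List ℕ :=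
  d * p.2.1 :: d * p.2.2.1 ::
    cols.map fun e => ((List.range d).map fun i => dig p.2.2.2 ((e * inv ^ i) % n)).sum

/-- Invariance under the shift by `d`. -/
def inv? (n inv : ℕ) (p : Row) (d : ℕ) : Bool :=
  (List.range n).all fun e => Nat.beq (dig p.2.2.2 ((e * inv ^ d) % n)) (dig p.2.2.2 e)

/-- An admissible block is a multiple of a generator. -/
def blockCheck (n inv : ℕ) (cols : List ℕ) (G : List (List ℕ)) (p : Row) : Bool :=
  decide (0 < p.2.1) && (List.range (248 / p.2.1)).all fun j =>
    !inv? n inv p (j + 1) || G.any fun u =>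
      Nat.beq ((j + 1) * p.2.1 % u.getD 0 1) 0 &&
        decide (vec n inv cols p (j + 1) = u.map fun x => (j + 1) * p.2.1 / u.getD 0 1 * x)

/-- All blocks of total dimension 248 are sums of generators. -/
theorem exists_sum {n inv f : ℕ} (hn : 0 < n) (hinv : inv * 3 % n = 1) (cols : List ℕ)
    (G : List (List ℕ)) (T : List Row) (hT : T.all (rowOK n) = true)
    (hC : T.all (blockCheck n inv cols G) = true)
    (hall : T.map (fun p => p.1) = (allA f).filter fun a => decide (2 ∣ a.sum))
    (L : List (List ℕ × ℕ)) (hL : ∀ b ∈ L, BlockOK n f b)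
    (hdim : ∀ b ∈ L, b.2 * (wts b.1).length ≤ 248) :
    ∃ M : List (List ℕ), (∀ u ∈ M, u ∈ G) ∧
      (M.map (·.getD 0 0)).sum = (L.map fun b => b.2 * (wts b.1).length).sum ∧
      (M.map (·.getD 1 0)).sum = (L.map blkMinus).sum ∧
      ∀ c < cols.length, (M.map (·.getD (c + 2) 0)).sum = (L.map fun b => blk n b (cols.getD c 0)).sum := by
  induction L with
  | nil => exact ⟨[], by simp, by simp, by simp, by simp⟩
  | cons b L ih =>
    obtain ⟨M, hMG, hM0, hM1, hMc⟩ := ih (fun x hx => hL x (List.mem_cons_of_mem _ hx))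
      (fun x hx => hdim x (List.mem_cons_of_mem _ hx))
    obtain ⟨hlen, hle, heven, hpos, hshift⟩ := hL b List.mem_cons_self
    have hmem : b.1 ∈ T.map (fun p => p.1) := by
      rw [hall]
      exact List.mem_filter.2 ⟨mem_allA hlen hle, by simpa using heven⟩
    obtain ⟨p, hpT, hp⟩ := List.mem_map.1 hmem
    have hrow := List.all_eq_true.1 hT p hpT
    have hchk := List.all_eq_true.1 hC p hpT
    simp only [rowOK, Bool.and_eq_true, Nat.beq_eq] at hrow
    obtain ⟨⟨h1, h2⟩, h3⟩ := hrow
    rw [hp] at h1 h2 h3
    simp only [blockCheck, Bool.and_eq_true, decide_eq_true_eq, List.all_eq_true, List.mem_range,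
      Bool.or_eq_true, Bool.not_eq_true'] at hchk
    obtain ⟨hpos', hchk⟩ := hchk
    have hbd : b.2 * p.2.1 ≤ 248 := h1 ▸ hdim b List.mem_cons_self
    have hlt : (wts b.1).length < 256 := by
      rw [h1]
      calc p.2.1 = 1 * p.2.1 := (one_mul _).symm
        _ ≤ b.2 * p.2.1 := Nat.mul_le_mul_right _ hpos
        _ < 256 := by omega
    obtain ⟨j, hj⟩ : ∃ j, b.2 = j + 1 := ⟨b.2 - 1, by omega⟩
    have hjlt : j < 248 / p.2.1 := by
      rw [Nat.lt_iff_add_one_le, Nat.le_div_iff_mul_le hpos', ← hj]
      exact hbd
    have hinvar : inv? n inv p (j + 1) = true := by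
      simp only [inv?, List.all_eq_true, List.mem_range, Nat.beq_eq]
      intro e he
      have h4 := hshift e he
      rw [res_eq hn hinv hlt, res_eq hn hinv hlt, pow_zero, mul_one, Nat.mod_eq_of_lt he, ← h2, hj] at h4
      exact h4
    rcases hchk j hjlt with h | h
    · rw [hinvar] at h
      exact absurd h (by simp)
    simp only [List.any_eq_true, Bool.and_eq_true, decide_eq_true_eq] at h
    obtain ⟨u, huG, -, hvec⟩ := h
    set k := (j + 1) * p.2.1 / u.getD 0 1 with hk
    have hget : ∀ c, k * u.getD c 0 = (vec n inv cols p b.2).getD c 0 := by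
      intro c
      rw [hj, hvec]
      simp only [List.getD, List.getElem?_map]
      cases u[c]? <;> simp
    refine ⟨List.replicate k u ++ M, fun w hw => ?_, ?_, ?_, ?_⟩
    · rcases List.mem_append.1 hw with h | h
      · exact (List.eq_of_mem_replicate h) ▸ huG
      · exact hMG w h
    · rw [List.map_append, List.sum_append, List.map_replicate, List.sum_replicate, smul_eq_mul, hget,
        hM0, List.map_cons, List.sum_cons, h1]
      rfl
    · rw [List.map_append, List.sum_append, List.map_replicate, List.sum_replicate, smul_eq_mul, hget,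
        hM1, List.map_cons, List.sum_cons, blkMinus, ← h3]
      rfl
    · intro c hc
      rw [List.map_append, List.sum_append, List.map_replicate, List.sum_replicate, smul_eq_mul, hget,
        hMc c hc, List.map_cons, List.sum_cons]
      congr 1
      rw [blk, vec, List.getD_cons_succ, List.getD_cons_succ]
      simp only [List.getD, List.getElem?_map, List.getElem?_eq_getElem hc, Option.map_some,
        Option.getD_some]
      congr 1
      refine List.map_congr_left fun i _ => ?_
      rw [res_eq hn hinv hlt, ← h2]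

end Cfsg.Agent.Lib.E8NoPSL3.CertComp
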