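import Cfsg.Agent.Lib.E8NoPSL3.Eigen

/-!
A representation over a field of characteristic three whose matrices are defined over the prime field decomposes into
Galois orbits of simple sections.
-/

set_option autoImplicit false

namespace Cfsg.Agent.Lib.E8NoPSL3

variable {G : Type*} [Monoid G] {K : Type*} [Field K] {n : Type*} [Fintype n] [DecidableEq n]
  (R : G →* Module.End K (n → K))

/-- A minimal stable subspace above another one. -/
def Cov (N L : Submodule K (n → K)) : Prop :=
  Stable R L ∧ N < L ∧ ∀ X, Stable R X → N ≤ X → X ≤ L → X = N ∨ X = L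

/-- The automorphisms fixing the entries of the representation. -/
def Fixes (φ : K ≃+* K) : Prop := ∀ g i j, φ (LinearMap.toMatrix' (R g) i j) = LinearMap.toMatrix' (R g) i j

variable {R}

theorem Fixes.symm {φ : K ≃+* K} (h : Fixes R φ) : Fixes R φ.symm :=
  fun g i j => φ.injective (by rw [RingEquiv.apply_symm_apply, h])

theorem emult_tw {φ : K ≃+* K} (h : Fixes R φ) (g : G) (c : K) (N : Submodule K (n → K)) :
    emult R g c (tw φ N) = emult R g (φ.symm c) N := by
  unfold emult
  rw [← finrank_tw φ (N ⊓ _), tw_inf]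
  have := tw_eigen φ (A := LinearMap.toMatrix' (R g)) (h g) c
  rw [Matrix.toLin'_toMatrix'] at this
  rw [this]

theorem stable_tw {φ : K ≃+* K} (h : Fixes R φ) {N : Submodule K (n → K)} (hN : Stable R N) :
    Stable R (tw φ N) := by
  intro g v hv
  rw [mem_tw] at hv ⊢
  have e : (fun i => φ.symm (R g v i)) = R g (fun i => φ.symm (v i)) := by
    funext i
    conv_lhs => rw [← Matrix.toLin'_toMatrix' (R g)]
    conv_rhs => rw [← Matrix.toLin'_toMatrix' (R g)]
    simp only [Matrix.toLin'_apply, Matrix.mulVec, dotProduct, map_sum, map_mul, h.symm g]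
  rw [e]
  exact hN g _ hv

theorem exists_cov {N : Submodule K (n → K)} (hN : N ≠ ⊤) : ∃ L, Cov R N L := by
  obtain ⟨L, ⟨hL, hlt⟩, hmin⟩ := WellFounded.has_min (wellFounded_lt (α := Submodule K (n → K)))
    {X | Stable R X ∧ N < X} ⟨⊤, stable_top R, lt_top_iff_ne_top.2 hN⟩
  exact ⟨L, hL, hlt, fun X hX h1 h2 => (eq_or_lt_of_le h1).elim (fun e => Or.inl e.symm) fun h =>
    (eq_or_lt_of_le h2).elim Or.inr fun h' => absurd h' (hmin X ⟨hX, h⟩)⟩

theorem Cov.tw {φ : K ≃+* K} (h : Fixes R φ) {N L : Submodule K (n → K)} (hN : E8NoPSL3.tw φ N = N)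
    (hc : Cov R N L) : Cov R N (E8NoPSL3.tw φ L) := by
  obtain ⟨hL, hlt, hmin⟩ := hc
  refine ⟨stable_tw h hL, lt_of_le_of_ne (hN ▸ tw_mono φ hlt.le) fun e => hlt.ne ?_, fun X hX h1 h2 => ?_⟩
  · have := congrArg (E8NoPSL3.tw φ.symm) (hN.trans e)
    rwa [tw_symm, tw_symm] at this
  · have e1 : E8NoPSL3.tw φ.symm N = N := by
      conv_lhs => rw [← hN]
      exact tw_symm φ N
    have e2 : E8NoPSL3.tw φ (E8NoPSL3.tw φ.symm X) = X := by
      have := tw_symm φ.symm X
      rwa [RingEquiv.symm_symm] at this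
    rcases hmin _ (stable_tw h.symm hX) (by rw [← e1]; exact tw_mono _ h1)
      (by rw [← tw_symm φ L]; exact tw_mono _ h2) with e | e
    · exact Or.inl (by rw [← e2, e, hN])
    · exact Or.inr (by rw [← e2, e])

theorem Cov.inf_eq {N L S : Submodule K (n → K)} (hc : Cov R N L) (hS : Stable R S) (hNS : N ≤ S) (h : ¬ L ≤ S) :
    L ⊓ S = N := by
  rcases hc.2.2 _ (Stable.inf R hc.1 hS) (le_inf hc.2.1.le hNS) inf_le_left with e | e
  · exact e
  · exact absurd (inf_eq_left.1 e) h

variable [CharP K 3] [IsAlgClosed K]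

/-- The powers of the Frobenius. -/
noncomputable def frob (j : ℕ) : K ≃+* K := iterateFrobeniusEquiv K 3 j

theorem frob_apply (j : ℕ) (x : K) : frob j x = x ^ 3 ^ j := rfl

theorem frob_symm_eq_iff (j : ℕ) (x c : K) : x = (frob j).symm c ↔ x ^ 3 ^ j = c := by
  rw [← frob_apply, RingEquiv.eq_symm_apply]

theorem tw_frob_succ (j : ℕ) (N : Submodule K (n → K)) : tw (frob 1) (tw (frob j) N) = tw (frob (j + 1)) N := by
  rw [tw_tw]
  congr 1
  refine RingEquiv.ext fun x => ?_
  show frob 1 (frob j x) = _
  rw [frob_apply, frob_apply, frob_apply, ← pow_mul, pow_one, pow_succ]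

theorem tw_frob_zero (N : Submodule K (n → K)) : tw (frob 0) N = N := by
  rw [show frob 0 = RingEquiv.refl K from RingEquiv.ext fun x => by simp [frob_apply]]
  exact tw_refl N

theorem tw_frob_fix {N : Submodule K (n → K)} (hN : tw (frob 1) N = N) : ∀ j, tw (frob j) N = N
  | 0 => tw_frob_zero N
  | j + 1 => by rw [← tw_frob_succ, tw_frob_fix hN j, hN]

/-- The sum of the first translates of a subspace. -/
noncomputable def orb (N L : Submodule K (n → K)) : ℕ → Submodule K (n → K)
  | 0 => N
  | j + 1 => orb N L j ⊔ tw (frob j) L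

theorem orb_shift {N L : Submodule K (n → K)} (hN : tw (frob 1) N = N) :
    ∀ j, orb N L (j + 1) = L ⊔ tw (frob 1) (orb N L j)
  | 0 => by
    show N ⊔ tw (frob 0) L = L ⊔ tw (frob 1) N
    rw [tw_frob_zero, hN, sup_comm]
  | j + 1 => by
    show orb N L (j + 1) ⊔ tw (frob (j + 1)) L = L ⊔ tw (frob 1) (orb N L j ⊔ tw (frob j) L)
    rw [orb_shift hN j, tw_sup, tw_frob_succ, sup_assoc]

variable (R)

/-- The step: the Galois orbit of a minimal stable subspace above a stable Galois invariant subspace. -/
theorem exists_step (hfix : ∀ j, Fixes R (frob j)) {N : Submodule K (n → K)} (hN : Stable R N)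
    (hNs : tw (frob 1) N = N) (hne : N ≠ ⊤) :
    ∃ (L N' : Submodule K (n → K)) (d : ℕ), Cov R N L ∧ 0 < d ∧ Stable R N' ∧ tw (frob 1) N' = N' ∧ N < N' ∧
      ∀ (g : G) (m : ℕ), g ^ m = 1 → (m : K) ≠ 0 → ∀ w : K → ℕ,
        (∀ c, emult R g c N + w c = emult R g c L) →
        (∀ c, w ((frob d).symm c) = w c) ∧
        ∀ c, emult R g c N + ((List.range d).map fun i => w ((frob i).symm c)).sum = emult R g c N' := by
  classical
  obtain ⟨L, hL⟩ := exists_cov (R := R) hne
  have hLj : ∀ j, Cov R N (tw (frob j) L) := fun j => hL.tw (hfix j) (tw_frob_fix hNs j)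
  have hS : ∀ j, Stable R (orb N L j) := by
    intro j
    induction j with
    | zero => exact hN
    | succ j ih => exact Stable.sup R ih (hLj j).1
  have hNS : ∀ j, N ≤ orb N L j := by
    intro j
    induction j with
    | zero => exact le_rfl
    | succ j ih => exact ih.trans le_sup_left
  have hex : ∃ j, tw (frob j) L ≤ orb N L j := by
    by_contra hno
    push Not at hno
    have hgrow : ∀ j, j ≤ Module.finrank K ↥(orb N L j) := by
      intro j
      induction j with
      | zero => exact Nat.zero_le _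
      | succ j ih =>
        have := Submodule.finrank_lt_finrank_of_lt (show orb N L j < orb N L (j + 1) from
          lt_of_le_of_ne le_sup_left fun e => hno j (by rw [e]; exact le_sup_right))
        omega
    have h1 := hgrow (Fintype.card n + 1)
    have h2 := Submodule.finrank_le (orb N L (Fintype.card n + 1))
    rw [Module.finrank_fintype_fun_eq_card] at h2
    omega
  set d := Nat.find hex with hd
  have hdle : tw (frob d) L ≤ orb N L d := Nat.find_spec hex
  have hlt : ∀ j < d, ¬ tw (frob j) L ≤ orb N L j := fun j hj => Nat.find_min hex hj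
  have hd0 : 0 < d := by
    rcases Nat.eq_zero_or_pos d with h | h
    · rw [h, tw_frob_zero] at hdle
      exact absurd hdle (not_le_of_gt hL.2.1)
    · exact h
  obtain ⟨e, he⟩ : ∃ e, d = e + 1 := ⟨d - 1, by omega⟩
  set S' := tw (frob 1) (orb N L e) with hS'
  have hS's : Stable R S' := stable_tw (hfix 1) (hS e)
  have hNS' : N ≤ S' := by rw [← hNs]; exact tw_mono _ (hNS e)
  have hSd : orb N L d = L ⊔ S' := by rw [he]; exact orb_shift hNs e
  have hnd : ¬ tw (frob d) L ≤ S' := by
    rw [he, ← tw_frob_succ]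
    exact fun h => hlt e (by omega) (tw_le _ h)
  have hn0 : ¬ L ≤ S' := fun h => hnd (hdle.trans (by rw [hSd]; exact sup_le h le_rfl))
  have hjoin : tw (frob d) L ⊔ S' = orb N L d := by
    refine le_antisymm (sup_le hdle (by rw [hSd]; exact le_sup_right)) ?_
    rw [hSd]
    refine sup_le ?_ le_sup_right
    by_contra hc
    have h1 := hL.inf_eq (Stable.sup R (hLj d).1 hS's) (hNS'.trans le_sup_right) hc
    refine hnd ?_
    have h2 : tw (frob d) L ⊔ S' = (S' ⊔ L) ⊓ (tw (frob d) L ⊔ S') := by
      refine (inf_eq_right.2 ?_).symm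
      exact sup_le (hdle.trans (by rw [hSd, sup_comm])) le_sup_left
    rw [sup_inf_assoc_of_le L (le_sup_right : S' ≤ tw (frob d) L ⊔ S'), h1, sup_eq_left.2 hNS'] at h2
    exact le_sup_left.trans h2.le
  refine ⟨L, orb N L d, d, hL, hd0, hS d, ?_, ?_, fun g m hg hm w hw => ?_⟩
  · conv_lhs => rw [he]
    rw [orb, tw_sup, tw_frob_succ, ← he, ← hjoin, sup_comm]
  · refine lt_of_lt_of_le hL.2.1 ?_
    rw [hSd]; exact le_sup_left
  have hwj : ∀ j c, emult R g c N + w ((frob j).symm c) = emult R g c (tw (frob j) L) := by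
    intro j c
    rw [emult_tw (hfix j), ← hw, ← emult_tw (hfix j) g c N, tw_frob_fix hNs j]
  refine ⟨fun c => ?_, fun c => ?_⟩
  · have e1 := emult_modular hg hm c hL.1 hS's
    have e2 := emult_modular hg hm c (hLj d).1 hS's
    rw [hL.inf_eq hS's hNS' hn0, ← hSd] at e1
    rw [(hLj d).inf_eq hS's hNS' hnd, hjoin] at e2
    have := hwj d c
    have := hw c
    omega
  · have key : ∀ j ≤ d, emult R g c N + ((List.range j).map fun i => w ((frob i).symm c)).sum =
        emult R g c (orb N L j) := by
      intro j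
      induction j with
      | zero => intro _; simp [orb]
      | succ j ih =>
        intro hj
        have e1 := emult_modular hg hm c (hS j) (hLj j).1
        rw [inf_comm, (hLj j).inf_eq (hS j) (hNS j) (hlt j hj)] at e1
        have := ih (by omega)
        have := hwj j c
        rw [List.range_succ, List.map_append, List.sum_append, List.map_singleton, List.sum_singleton, orb]
        omega
    exact key d le_rfl

end Cfsg.Agent.Lib.E8NoPSL3
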