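import Cfsg.Agent.Lib.E8NoPSL3.Iface

/-!
Eigenspaces of elements of order prime to the characteristic inside stable subspaces, and twisting by field
automorphisms.
-/

set_option autoImplicit false

namespace Cfsg.Agent.Lib.E8NoPSL3

open Module

section Eigen

variable {G : Type*} [Monoid G] {K : Type*} [Field K] {V : Type*} [AddCommGroup V] [Module K V]
  (R : G →* Module.End K V)

/-- A subspace stable under the representation. -/
def Stable (N : Submodule K V) : Prop := ∀ g : G, ∀ v ∈ N, R g v ∈ N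

theorem Stable.sup {A B : Submodule K V} (hA : Stable R A) (hB : Stable R B) : Stable R (A ⊔ B) := by
  intro g v hv
  obtain ⟨a, ha, b, hb, rfl⟩ := Submodule.mem_sup.1 hv
  rw [map_add]
  exact Submodule.add_mem_sup (hA g a ha) (hB g b hb)

theorem Stable.inf {A B : Submodule K V} (hA : Stable R A) (hB : Stable R B) : Stable R (A ⊓ B) :=
  fun g v hv => ⟨hA g v hv.1, hB g v hv.2⟩

theorem stable_bot : Stable R ⊥ := fun g v hv => by
  rw [Submodule.mem_bot] at hv ⊢; rw [hv, map_zero]

theorem stable_top : Stable R ⊤ := fun _ _ _ => trivial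

/-- The dimension of the part of an eigenspace in a subspace. -/
noncomputable def emult (g : G) (c : K) (N : Submodule K V) : ℕ :=
  Module.finrank K ↥(N ⊓ Module.End.eigenspace (R g) c)

/-- The projection onto an eigenspace. -/
noncomputable def proj (g : G) (m : ℕ) (c : K) : Module.End K V :=
  (m : K)⁻¹ • ∑ j ∈ Finset.range m, (c ^ j)⁻¹ • R g ^ j

variable {R}

theorem eig_bot {g : G} {m : ℕ} (hg : g ^ m = 1) {c : K} (hc : c ^ m ≠ 1) :
    Module.End.eigenspace (R g) c = ⊥ := by
  refine Submodule.eq_bot_iff _ |>.2 fun v hv => ?_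
  rw [Module.End.mem_eigenspace_iff] at hv
  have : ∀ j : ℕ, (R g ^ j) v = c ^ j • v := by
    intro j
    induction j with
    | zero => simp
    | succ j ih => rw [pow_succ', Module.End.mul_apply, ih, map_smul, hv, smul_smul, pow_succ]
  have h := this m
  rw [← map_pow, hg, map_one, Module.End.one_apply] at h
  have h' : (c ^ m - 1) • v = 0 := by rw [sub_smul, one_smul, ← h, sub_self]
  exact (smul_eq_zero.1 h').resolve_left (sub_ne_zero.2 hc)

theorem proj_mem {g : G} {m : ℕ} (hg : g ^ m = 1) {c : K} (hc : c ^ m = 1) (v : V) :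
    proj R g m c v ∈ Module.End.eigenspace (R g) c := by
  rw [Module.End.mem_eigenspace_iff]
  rcases m with _ | m
  · simp [proj]
  have hc0 : c ≠ 0 := fun h => by simp [h] at hc
  simp only [proj, LinearMap.smul_apply, LinearMap.sum_apply, map_smul, map_sum]
  rw [smul_comm c, Finset.smul_sum (r := c)]
  congr 1
  have e : ∀ j, (c ^ j)⁻¹ • R g ((R g ^ j) v) = c • ((c ^ (j + 1))⁻¹ • (R g ^ (j + 1)) v) := fun j => by
    rw [smul_smul, pow_succ' (R g), Module.End.mul_apply]
    congr 1
    field_simp [hc0]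
    ring
  simp only [e]
  rw [← Finset.smul_sum, ← Finset.smul_sum]
  congr 1
  have h1 := Finset.sum_range_succ' (fun j => (c ^ j)⁻¹ • (R g ^ j) v) (m + 1)
  have h2 := Finset.sum_range_succ (fun j => (c ^ j)⁻¹ • (R g ^ j) v) (m + 1)
  rw [hc, ← map_pow R g (m + 1), hg, map_one, inv_one, one_smul, Module.End.one_apply] at h2
  rw [pow_zero, pow_zero, inv_one, one_smul, Module.End.one_apply] at h1
  exact add_right_cancel (h1.symm.trans h2)

theorem proj_eigen {g : G} {m : ℕ} (hm : (m : K) ≠ 0) {c : K} (hc : c ^ m = 1) {v : V}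
    (hv : v ∈ Module.End.eigenspace (R g) c) : proj R g m c v = v := by
  rw [Module.End.mem_eigenspace_iff] at hv
  have hc0 : c ≠ 0 := by
    rintro rfl
    rcases m with _ | m
    · simp at hm
    · simp at hc
  have : ∀ j : ℕ, (R g ^ j) v = c ^ j • v := by
    intro j
    induction j with
    | zero => simp
    | succ j ih => rw [pow_succ', Module.End.mul_apply, ih, map_smul, hv, smul_smul, pow_succ]
  simp only [proj, LinearMap.smul_apply, LinearMap.sum_apply, this, smul_smul]
  simp only [inv_mul_cancel₀ (pow_ne_zero _ hc0), one_smul, Finset.sum_const, Finset.card_range]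
  rw [← Nat.cast_smul_eq_nsmul K, smul_smul, inv_mul_cancel₀ hm, one_smul]

theorem proj_stable {N : Submodule K V} (hN : Stable R N) (g : G) (m : ℕ) (c : K) {v : V} (hv : v ∈ N) :
    proj R g m c v ∈ N := by
  simp only [proj, LinearMap.smul_apply, LinearMap.sum_apply]
  exact N.smul_mem _ (Submodule.sum_mem _ fun j _ => N.smul_mem _ (by rw [← map_pow]; exact hN _ v hv))

theorem emult_modular [FiniteDimensional K V] {g : G} {m : ℕ} (hg : g ^ m = 1) (hm : (m : K) ≠ 0) (c : K)
    {A B : Submodule K V} (hA : Stable R A) (hB : Stable R B) :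
    emult R g c (A ⊔ B) + emult R g c (A ⊓ B) = emult R g c A + emult R g c B := by
  unfold emult
  set E := Module.End.eigenspace (R g) c with hE
  by_cases hc : c ^ m = 1
  · have e1 : (A ⊔ B) ⊓ E = (A ⊓ E) ⊔ (B ⊓ E) := by
      refine le_antisymm ?_ (sup_le (inf_le_inf_right _ le_sup_left) (inf_le_inf_right _ le_sup_right))
      rintro v ⟨hv, hvE⟩
      obtain ⟨a, ha, b, hb, rfl⟩ := Submodule.mem_sup.1 hv
      rw [← proj_eigen hm hc hvE, map_add]
      exact Submodule.add_mem_sup ⟨proj_stable hA g m c ha, proj_mem hg hc a⟩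
        ⟨proj_stable hB g m c hb, proj_mem hg hc b⟩
    have e2 : (A ⊓ B) ⊓ E = (A ⊓ E) ⊓ (B ⊓ E) := by rw [inf_inf_distrib_right]
    rw [e1, e2]
    exact Submodule.finrank_sup_add_finrank_inf_eq _ _
  · rw [show E = ⊥ from eig_bot hg hc]
    rw [inf_bot_eq, inf_bot_eq, inf_bot_eq, inf_bot_eq]

variable {W : Type*} [AddCommGroup W] [Module K W] {R' : G →* Module.End K W}

theorem emult_map [FiniteDimensional K V] {g : G} {m : ℕ} (hg : g ^ m = 1) (hm : (m : K) ≠ 0) (c : K)
    (Ψ : V →ₗ[K] W) {L : Submodule K V} (hL : Stable R L) (hΨ : ∀ h : G, ∀ v ∈ L, Ψ (R h v) = R' h (Ψ v)) :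
    emult R g c L = emult R g c (L ⊓ LinearMap.ker Ψ) + emult R' g c (L.map Ψ) := by
  set E := Module.End.eigenspace (R g) c with hE
  set E' := Module.End.eigenspace (R' g) c with hE'
  have hrange : LinearMap.range (Ψ.domRestrict (L ⊓ E)) = L.map Ψ ⊓ E' := by
    ext w
    constructor
    · rintro ⟨⟨v, hvL, hvE⟩, rfl⟩
      refine ⟨⟨v, hvL, rfl⟩, ?_⟩
      show Ψ v ∈ E'
      rw [hE', Module.End.mem_eigenspace_iff, ← hΨ g v hvL, Module.End.mem_eigenspace_iff.1 hvE, map_smul]
    · rintro ⟨⟨v, hvL, rfl⟩, hw⟩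
      by_cases hc : c ^ m = 1
      · refine ⟨⟨proj R g m c v, proj_stable hL g m c hvL, proj_mem hg hc v⟩, ?_⟩
        show Ψ (proj R g m c v) = Ψ v
        have : Ψ (proj R g m c v) = proj R' g m c (Ψ v) := by
          simp only [proj, LinearMap.smul_apply, LinearMap.sum_apply, map_smul, map_sum, ← map_pow, hΨ _ v hvL]
        rw [this, proj_eigen hm hc hw]
      · rw [hE', eig_bot hg hc] at hw
        refine ⟨0, ?_⟩
        rw [map_zero]
        exact (Submodule.mem_bot K).1 hw |>.symm
  have h := LinearMap.finrank_range_add_finrank_ker (Ψ.domRestrict (L ⊓ E))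
  rw [hrange] at h
  have hk : Module.finrank K ↥(LinearMap.ker (Ψ.domRestrict (L ⊓ E))) = emult R g c (L ⊓ LinearMap.ker Ψ) := by
    rw [emult, LinearMap.ker_domRestrict, ← hE,
      show (L ⊓ LinearMap.ker Ψ) ⊓ E = (L ⊓ E) ⊓ LinearMap.ker Ψ from inf_right_comm _ _ _]
    exact (Submodule.equivSubtypeMap (L ⊓ E) _).finrank_eq.trans (by rw [Submodule.map_comap_subtype])
  rw [hk] at h
  have h2 : emult R g c L = Module.finrank K ↥(L ⊓ E) := rfl
  have h3 : emult R' g c (L.map Ψ) = Module.finrank K ↥(L.map Ψ ⊓ E') := rfl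
  omega

end Eigen

section Twist

variable {G : Type*} [Monoid G] {K : Type*} [Field K] {n : Type*} [Fintype n]

/-- The image of a subspace under a field automorphism applied to the coordinates. -/
def tw (φ : K ≃+* K) (N : Submodule K (n → K)) : Submodule K (n → K) where
  carrier := {v | (fun i => φ.symm (v i)) ∈ N}
  zero_mem' := by
    show (fun i => φ.symm ((0 : n → K) i)) ∈ N
    simp only [Pi.zero_apply, map_zero]
    exact N.zero_mem
  add_mem' := fun {a b} ha hb => by
    show (fun i => φ.symm ((a + b) i)) ∈ N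
    simp only [Pi.add_apply, map_add]
    exact N.add_mem ha hb
  smul_mem' := fun c a ha => by
    show (fun i => φ.symm ((c • a) i)) ∈ N
    simp only [Pi.smul_apply, smul_eq_mul, map_mul]
    exact N.smul_mem (φ.symm c) ha

theorem mem_tw {φ : K ≃+* K} {N : Submodule K (n → K)} {v : n → K} :
    v ∈ tw φ N ↔ (fun i => φ.symm (v i)) ∈ N := Iff.rfl

theorem tw_tw (φ ψ : K ≃+* K) (N : Submodule K (n → K)) : tw φ (tw ψ N) = tw (ψ.trans φ) N := rfl

theorem tw_refl (N : Submodule K (n → K)) : tw (RingEquiv.refl K) N = N := rfl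

theorem tw_symm (φ : K ≃+* K) (N : Submodule K (n → K)) : tw φ.symm (tw φ N) = N := by
  ext v; simp [mem_tw]

theorem tw_mono (φ : K ≃+* K) {A B : Submodule K (n → K)} (h : A ≤ B) : tw φ A ≤ tw φ B := fun _ hv => h hv

theorem tw_le (φ : K ≃+* K) {A B : Submodule K (n → K)} (h : tw φ A ≤ tw φ B) : A ≤ B := by
  rw [← tw_symm φ A, ← tw_symm φ B]; exact tw_mono _ h

theorem tw_inf (φ : K ≃+* K) (A B : Submodule K (n → K)) : tw φ (A ⊓ B) = tw φ A ⊓ tw φ B := rfl

theorem tw_sup (φ : K ≃+* K) (A B : Submodule K (n → K)) : tw φ (A ⊔ B) = tw φ A ⊔ tw φ B := by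
  refine le_antisymm ?_ (sup_le (tw_mono φ le_sup_left) (tw_mono φ le_sup_right))
  intro v hv
  obtain ⟨a, ha, b, hb, e⟩ := Submodule.mem_sup.1 hv
  have ev : v = (fun i => φ (a i)) + fun i => φ (b i) := funext fun i => by
    rw [Pi.add_apply, ← map_add, ← Pi.add_apply, e, RingEquiv.apply_symm_apply]
  rw [ev]
  exact Submodule.add_mem_sup (mem_tw.2 (by simpa using ha)) (mem_tw.2 (by simpa using hb))

theorem finrank_tw (φ : K ≃+* K) (N : Submodule K (n → K)) :
    Module.finrank K ↥(tw φ N) = Module.finrank K ↥N := by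
  let j : ↥N ≃+ ↥(tw φ N) :=
    { toFun := fun v => ⟨fun i => φ (v.1 i), mem_tw.2 (by simp)⟩
      invFun := fun v => ⟨fun i => φ.symm (v.1 i), v.2⟩
      left_inv := fun v => by ext i; simp
      right_inv := fun v => by ext i; simp
      map_add' := fun a b => by ext i; simp }
  have := rank_eq_of_equiv_equiv (φ : K → K) j φ.bijective (fun r v => Subtype.ext (funext fun i => map_mul φ r (v.1 i)))
  exact congrArg Cardinal.toNat this.symm

theorem tw_eigen (φ : K ≃+* K) {A : Matrix n n K} [DecidableEq n] (hA : ∀ i j, φ (A i j) = A i j) (c : K) :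
    Module.End.eigenspace (Matrix.toLin' A) c = tw φ (Module.End.eigenspace (Matrix.toLin' A) (φ.symm c)) := by
  ext v
  rw [mem_tw, Module.End.mem_eigenspace_iff, Module.End.mem_eigenspace_iff, Matrix.toLin'_apply,
    Matrix.toLin'_apply, funext_iff, funext_iff]
  refine forall_congr' fun i => ?_
  rw [← φ.symm.injective.eq_iff]
  simp only [Matrix.mulVec, dotProduct, map_sum, map_mul, Pi.smul_apply, smul_eq_mul]
  have : ∀ j, φ.symm (A i j) = A i j := fun j => φ.injective (by rw [RingEquiv.apply_symm_apply, hA])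
  simp only [this]

end Twist

end Cfsg.Agent.Lib.E8NoPSL3
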