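import Cfsg.Agent.Lib.E8NoPSL3.Iface
import Cfsg.Agent.Lib.H59.Invol.DataE8

/-!
# The eigenspaces of the involutions of E₈(3) (helper9)
-/

set_option autoImplicit false
set_option maxRecDepth 8000

namespace Cfsg.Agent.Lib.E8NoPSL3

open Cfsg.Lie Cfsg.Agent.Lib.Chev
open Cfsg.Agent.Lib.H59.Invol (av z2 exists_orbit negated_of_orbit exists_conj_tor av_funv)
open Cfsg.Agent.Lib.H59.Homocyclic (act tor CW zval)

namespace InvAux

theorem mult_eq {n : Type*} [Fintype n] [DecidableEq n] {K : Type*} [Field K] (A : Matrix n n K) (c : K) :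
    mult A c + (A - c • (1 : Matrix n n K)).rank = Fintype.card n := by
  have h : Module.End.eigenspace (Matrix.toLin' A) c = LinearMap.ker (A - c • (1 : Matrix n n K)).mulVecLin := by
    ext x
    rw [Module.End.mem_eigenspace_iff, LinearMap.mem_ker, Matrix.mulVecLin_apply, Matrix.sub_mulVec,
      Matrix.smul_mulVec, Matrix.one_mulVec, sub_eq_zero, Matrix.toLin'_apply]
  have h2 := LinearMap.finrank_range_add_finrank_ker (A - c • (1 : Matrix n n K)).mulVecLin
  rw [Module.finrank_fintype_fun_eq_card] at h2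
  rw [mult, h, Matrix.rank]
  omega

theorem mult_conj {n : Type*} [Fintype n] [DecidableEq n] {K : Type*} [Field K] (A : Matrix n n K)
    (P : GL n K) (c : K) :
    mult ((P : Matrix n n K) * A * ((P⁻¹ : GL n K) : Matrix n n K)) c = mult A c := by
  have e : (P : Matrix n n K) * A * ((P⁻¹ : GL n K) : Matrix n n K) - c • (1 : Matrix n n K) =
      (P : Matrix n n K) * (A - c • 1) * ((P⁻¹ : GL n K) : Matrix n n K) := by
    rw [Matrix.mul_sub, Matrix.sub_mul, Matrix.mul_smul, Matrix.smul_mul, Matrix.mul_one,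
      ← Units.val_mul P P⁻¹, mul_inv_cancel, Units.val_one]
  have hr : ((P : Matrix n n K) * A * ((P⁻¹ : GL n K) : Matrix n n K) - c • (1 : Matrix n n K)).rank = (A - c • 1).rank := by
    rw [e, Matrix.rank_mul_eq_left_of_isUnit_det _ _ ((Matrix.isUnit_iff_isUnit_det _).1 (P⁻¹).isUnit),
      Matrix.rank_mul_eq_right_of_isUnit_det _ _ ((Matrix.isUnit_iff_isUnit_det _).1 P.isUnit)]
  have h1 := mult_eq ((P : Matrix n n K) * A * ((P⁻¹ : GL n K) : Matrix n n K)) c
  have h2 := mult_eq A c
  omega

theorem mult_diagonal {n : Type*} [Fintype n] [DecidableEq n] {K : Type*} [Field K] [DecidableEq K]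
    (d : n → K) (c : K) :
    mult (Matrix.diagonal d) c = Fintype.card {i : n // d i = c} := by
  have e : Matrix.diagonal d - c • (1 : Matrix n n K) = Matrix.diagonal fun i => d i - c := by
    rw [Matrix.smul_one_eq_diagonal, Matrix.diagonal_sub]
  have h := mult_eq (Matrix.diagonal d) c
  rw [e, Matrix.rank_diagonal] at h
  have h2 : Fintype.card {i : n // d i - c ≠ 0} = Fintype.card n - Fintype.card {i : n // d i = c} := by
    rw [← Fintype.card_subtype_compl]
    exact Fintype.card_congr (Equiv.subtypeEquivRight fun i => by rw [sub_ne_zero])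
  have h3 := Fintype.card_subtype_le (fun i : n => d i = c)
  omega

theorem odd_count : (Finset.univ.filter fun r : Fin chevE8.nroots =>
      Cfsg.Agent.Lib.Chev.coef chevE8 E8.cert H59.Invol.E8.cls0.node r.val % 2 ≠ 0).card = 128 ∧
    (Finset.univ.filter fun r : Fin chevE8.nroots =>
      Cfsg.Agent.Lib.Chev.coef chevE8 E8.cert H59.Invol.E8.cls1.node r.val % 2 ≠ 0).card = 112 := by
  decide +kernel

end InvAux

open InvAux in
theorem invFact : InvStmt := by
  intro K _ _ t ht h2 h1
  classical
  have hh : Rooted chevE8 E8.cert := ⟨checked_E8, descent_E8⟩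
  have h := hh.toChecked
  have hc0 : H59.Invol.ClassOK chevE8 E8.cert E8.orbits H59.Invol.E8.cls0 :=
    ⟨H59.Invol.E8.cls0_reps, H59.Invol.E8.cls0_orb, H59.Invol.E8.cls0_count⟩
  have hc1 : H59.Invol.ClassOK chevE8 E8.cert E8.orbits H59.Invol.E8.cls1 :=
    ⟨H59.Invol.E8.cls1_reps, H59.Invol.E8.cls1_orb, H59.Invol.E8.cls1_count⟩
  obtain ⟨B, hB, -⟩ := H59.Homocyclic.exists_cmMat_inverse (D := chevE8) (C := E8.cert) E8.smith_ok (by decide)
  obtain ⟨a, ha, ha0, g, -, eg⟩ := exists_conj_tor (F := ZMod 3) hh Twisted.etaSigns_E8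
    (by rw [ZMod.card]; decide) hB (fun a ha ha0 p hp hp2 hp1 hpa => by
      rcases exists_orbit hh hc0 hc1 H59.Invol.E8.cover ha ha0 with ⟨x, hx, rfl⟩ | ⟨x, hx, rfl⟩
      · exact negated_of_orbit hh hc0 E8.chain_ok hx hp hp2 hp1 hpa
      · exact negated_of_orbit hh hc1 E8.chain_ok hx hp hp2 hp1 hpa) ht h2 h1
  have hm : mult (up K (t : Matrix chevE8.Idx chevE8.Idx (ZMod 3))) (-1) =
      (Finset.univ.filter fun r : Fin chevE8.nroots => a r ≠ 0).card := by
    let φ : Matrix chevE8.Idx chevE8.Idx (ZMod 3) →+* Matrix chevE8.Idx chevE8.Idx K :=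
      (ZMod.castHom (dvd_refl 3) K).mapMatrix
    let G : GL chevE8.Idx K := Units.map φ.toMonoidHom g
    have e1 : up K ((tor (z2 (ZMod 3)) (Multiplicative.ofAdd a) : GL chevE8.Idx (ZMod 3)) :
          Matrix chevE8.Idx chevE8.Idx (ZMod 3)) =
        (G : Matrix chevE8.Idx chevE8.Idx K) * up K (t : Matrix chevE8.Idx chevE8.Idx (ZMod 3)) *
          ((G⁻¹ : GL chevE8.Idx K) : Matrix chevE8.Idx chevE8.Idx K) := by
      rw [← eg, Units.val_mul, Units.val_mul]
      show φ _ = _
      rw [map_mul, map_mul]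
      rfl
    rw [← mult_conj _ G, ← e1, H59.Homocyclic.coe_tor, up, ChevalleyDatum.charDiag,
      Matrix.diagonal_map (map_zero _), mult_diagonal]
    rw [← Fintype.card_coe]
    have h2K : (1 : K) ≠ -1 := fun e => by
      have h' : ((2 : ℕ) : K) = 0 := by
        push_cast
        linear_combination e
      rw [CharP.cast_eq_zero_iff K 3] at h'
      omega
    refine Fintype.card_congr
      { toFun := fun i => match i with
          | ⟨Sum.inl x, hx⟩ => absurd hx (by simpa using h2K)
          | ⟨Sum.inr r, hr⟩ => ⟨r, by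
              refine Finset.mem_filter.2 ⟨Finset.mem_univ _, fun e => h2K ?_⟩
              simpa [zval, r.isLt, e] using hr⟩
        invFun := fun r => ⟨Sum.inr r.1, by
          have hr := (Finset.mem_filter.1 r.2).2
          have e : a r.1 = 1 := by
            revert hr; generalize a r.1 = z; revert z; decide
          simp [zval, e, z2, show (1 : ZMod 2).val = 1 from rfl]⟩
        left_inv := fun i => by
          rcases i with ⟨x | r, hx⟩
          · exact absurd hx (by simpa using h2K)
          · rfl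
        right_inv := fun r => rfl }
  have key : ∀ k, k < chevE8.rank → ∀ w, act w (av chevE8 E8.cert (Cfsg.Agent.Lib.Chev.funv chevE8 k)) = a →
      (Finset.univ.filter fun r : Fin chevE8.nroots => a r ≠ 0).card =
        (Finset.univ.filter fun r : Fin chevE8.nroots =>
          Cfsg.Agent.Lib.Chev.coef chevE8 E8.cert k r.val % 2 ≠ 0).card := by
    intro k hk w ew
    subst ew
    refine Finset.card_equiv (w⁻¹ : Equiv.Perm _) fun r => ?_
    simp only [Finset.mem_filter, Finset.mem_univ, true_and, H59.Homocyclic.act_apply, ne_eq,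
      H59.Invol.av_funv_eq_zero_iff hh hk]
  rcases exists_orbit hh hc0 hc1 H59.Invol.E8.cover ha ha0 with ⟨w, -, ew⟩ | ⟨w, -, ew⟩
  · right
    rw [hm, key _ (H59.Invol.node_lt hh hc0) w ew, odd_count.1]
  · left
    rw [hm, key _ (H59.Invol.node_lt hh hc1) w ew, odd_count.2]

end Cfsg.Agent.Lib.E8NoPSL3
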