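import Cfsg.Agent.Lib.E8NoPSL3.IfaceCert
import Cfsg.Agent.Lib.E8NoPSL3.Inv
import Cfsg.Agent.Lib.H59.Homocyclic.Main
import Cfsg.Agent.Lib.Chev.PoincareE8

/-!
# The eigenvalue multiplicities of the elements of order 73 of E₈(3) (helper9)
-/

set_option autoImplicit false
set_option maxRecDepth 8000

namespace Cfsg.Agent.Lib.E8NoPSL3

open Cfsg.Lie Cfsg.Agent.Lib.Chev Cfsg.Agent.Lib.ChevField
open Cfsg.Agent.Lib.H59.Homocyclic (iota tor zval coe_tor tor_mem iota_injective tor_injective exists_zmodHom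
  factorization_group)
open scoped Matrix

namespace OrdAux

theorem factor_73 : (3 ^ 12 - 1 : ℕ).factorization 73 = 1 := by
  have hp : Nat.Prime 73 := by norm_num
  rw [show (3 ^ 12 - 1 : ℕ) = 73 * 7280 by norm_num, Nat.factorization_mul (by norm_num) (by norm_num),
    Finsupp.add_apply, hp.factorization_self, Nat.factorization_eq_zero_of_not_dvd (by norm_num)]

theorem three_pow : ((3 ^ 12 : ℕ) : ZMod 73) = 1 := by decide

theorem small_ne : (1 : ZMod 73) ≠ 0 ∧ (2 : ZMod 73) ≠ 0 ∧ (3 : ZMod 73) ≠ 0 ∧ (4 : ZMod 73) ≠ 0 ∧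
    (5 : ZMod 73) ≠ 0 ∧ (7 : ZMod 73) ≠ 0 ∧ (13 : ZMod 73) ≠ 0 := by decide

/-- An element of order dividing 73 is conjugate over the algebraic closure to a coweight modulo 73. -/
theorem exists_coweight (K : Type) [Field K] [CharP K 3] [IsAlgClosed K] (x : GL chevE8.Idx (ZMod 3))
    (hx : x ∈ chevE8.group (ZMod 3)) (h73 : x ^ 73 = 1) :
    ∃ (ζ : K) (lam : Fin chevE8.rank → ZMod 73) (P : GL chevE8.Idx K),
      IsPrimitiveRoot ζ 73 ∧ (iota chevE8 (ZMod 73) lam = 0 → x = 1) ∧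
      up K (x : Matrix chevE8.Idx chevE8.Idx (ZMod 3)) = (P : Matrix chevE8.Idx chevE8.Idx K) *
        Matrix.diagonal (Sum.elim (fun _ => 1) fun s => ζ ^ (iota chevE8 (ZMod 73) lam s).val) *
        ((P⁻¹ : GL chevE8.Idx K) : Matrix chevE8.Idx chevE8.Idx K) := by
  classical
  haveI : Fact (Nat.Prime 3) := ⟨by norm_num⟩
  haveI : Fact (Nat.Prime 73) := ⟨by norm_num⟩
  have hh : Rooted chevE8 E8.cert := ⟨checked_E8, descent_E8⟩
  let K0 := FiniteField.Extension (ZMod 3) 3 12
  letI : Fintype K0 := Fintype.ofFinite K0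
  have hK0' : Nat.card K0 = 3 ^ 12 := by rw [FiniteField.natCard_extension, Nat.card_zmod]
  have hK0 : Fintype.card K0 = 3 ^ 12 := by rw [Fintype.card_eq_nat_card, hK0']
  obtain ⟨hG, hk⟩ := factorization_group hh (K := K0) E8.smith_ok E8.chain_ok E8.poly_ok (r := 73)
    (fun i hi => (by decide : ∀ j < 8, ¬ 73 ∣ ([1, 1, 1, 1, 1, 1, 1, 1] : List ℕ).getD j 0) i hi)
    (by decide) (by rw [hK0]; norm_num)
  rw [hK0, three_pow, orderOf_one, pow_one, factor_73, one_mul,
    List.filter_eq_self.2 (fun e _ => by simp)] at hG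
  obtain ⟨z, hz⟩ := exists_zmodHom (K := K0) (m := 73) (by rw [hK0']; norm_num) (by norm_num)
  have hinj := iota_injective (D := chevE8) (z := z) hh.toChecked hz hk
  let τ : Multiplicative (Fin chevE8.rank → ZMod 73) →* ↥(chevE8.group K0) :=
    { toFun := fun a => ⟨tor z (Multiplicative.ofAdd (iota chevE8 (ZMod 73) a.toAdd)),
        hh.diagonal_le_group (tor_mem hh.toChecked hh ⟨_, rfl⟩)⟩
      map_one' := Subtype.ext (by simp)
      map_mul' := fun a b => Subtype.ext (by simp [ofAdd_add]) }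
  have hτ : Function.Injective τ := fun a b e => by
    have e1 := Multiplicative.ofAdd.injective (tor_injective hz (congrArg Subtype.val e))
    exact Multiplicative.toAdd.injective (hinj e1)
  have hcard : Nat.card ↥τ.range = 73 ^ (Nat.card ↥(chevE8.group K0)).factorization 73 := by
    rw [← Nat.card_congr (MonoidHom.ofInjective hτ).toEquiv, hG, Nat.card_congr Multiplicative.toAdd,
      Nat.card_fun, Nat.card_zmod, Nat.card_fin]
    rfl
  let T : Sylow 73 ↥(chevE8.group K0) := Sylow.ofCard τ.range hcard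
  let f : ZMod 3 →+* K0 := algebraMap (ZMod 3) K0
  let y : ↥(chevE8.group K0) := ⟨glMap chevE8 f x, glMap_group_le f (Subgroup.mem_map_of_mem _ hx)⟩
  have hy : y ^ 73 = 1 := Subtype.ext (by
    show glMap chevE8 f x ^ 73 = 1
    rw [← map_pow, h73, map_one])
  have hp : IsPGroup 73 ↥(Subgroup.zpowers y) := fun a => ⟨1, by
    obtain ⟨i, hi⟩ := Subgroup.mem_zpowers_iff.1 a.2
    refine Subtype.ext ?_
    rw [Subgroup.coe_pow, pow_one, ← hi, ← zpow_natCast, ← zpow_mul, mul_comm, zpow_mul, zpow_natCast, hy,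
      one_zpow, Subgroup.coe_one]⟩
  obtain ⟨Q, hQ⟩ := hp.exists_le_sylow
  obtain ⟨g, hg⟩ := MulAction.exists_smul_eq ↥(chevE8.group K0) Q T
  have h1 : g * y * g⁻¹ ∈ (T : Subgroup ↥(chevE8.group K0)) := by
    rw [← hg]
    exact Subgroup.smul_mem_pointwise_smul y (MulAut.conj g) _ (hQ (Subgroup.mem_zpowers y))
  obtain ⟨lam, hlam⟩ := h1
  have e : (g : GL chevE8.Idx K0) * glMap chevE8 f x * (g : GL chevE8.Idx K0)⁻¹ =
      tor z (Multiplicative.ofAdd (iota chevE8 (ZMod 73) lam.toAdd)) :=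
    (congrArg Subtype.val hlam).symm
  -- into the algebraically closed field
  letI : Algebra (ZMod 3) K := ZMod.algebra K 3
  let j : K0 →+* K := (IsAlgClosed.lift : K0 →ₐ[ZMod 3] K).toRingHom
  refine ⟨j ((z (Multiplicative.ofAdd 1) : K0ˣ) : K0), lam.toAdd, (glMap chevE8 j (g : GL chevE8.Idx K0))⁻¹,
    ?_, ?_, ?_⟩
  · have ho : orderOf (j ((z (Multiplicative.ofAdd 1) : K0ˣ) : K0)) = 73 := by
      show orderOf ((j : K0 →* K) _) = 73
      rw [orderOf_injective (j : K0 →* K) j.injective, orderOf_units,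
        orderOf_injective z hz, orderOf_ofAdd_eq_addOrderOf, ZMod.addOrderOf_one]
    exact IsPrimitiveRoot.iff_orderOf.2 ho
  · intro h0
    rw [h0, ofAdd_zero, map_one, mul_inv_eq_one, mul_eq_left] at e
    exact glMap_injective f (e.trans (map_one _).symm)
  · have hcast : (ZMod.castHom (dvd_refl 3) K) = j.comp f := Subsingleton.elim _ _
    have hd : ((glMap chevE8 j (tor z (Multiplicative.ofAdd (iota chevE8 (ZMod 73) lam.toAdd))) :
          GL chevE8.Idx K) : Matrix chevE8.Idx chevE8.Idx K) =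
        Matrix.diagonal (Sum.elim (fun _ => 1) fun s =>
          j ((z (Multiplicative.ofAdd 1) : K0ˣ) : K0) ^ (iota chevE8 (ZMod 73) lam.toAdd s).val) := by
      rw [coe_glMap, coe_tor, ChevalleyDatum.charDiag, Matrix.diagonal_map (map_zero _)]
      congr 1
      funext u
      rcases u with i | s
      · simp
      · simp only [Function.comp_apply, Sum.elim_inr, zval, dif_pos s.isLt, Fin.eta]
        rw [← map_pow j, ← Units.val_pow_eq_pow_val, ← map_pow z, ← ofAdd_nsmul, nsmul_one, ZMod.natCast_zmod_val]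
    rw [← hd, ← e, map_mul, map_mul, map_inv, glMap_glMap, ← hcast]
    rw [Units.val_mul, Units.val_mul, inv_inv]
    simp only [← mul_assoc, Units.inv_mul, one_mul]
    rw [mul_assoc, Units.inv_mul, mul_one]
    rfl

end OrdAux

open OrdAux in
theorem ordFact (h : AlcoveStmt) : OrdStmt := by
  intro K _ _ _ x hx h73 hne ω hω hinv h20
  classical
  haveI : Fact (Nat.Prime 73) := ⟨by norm_num⟩
  obtain ⟨ζ, lam, P, hζ, h0, hdiag⟩ := exists_coweight K x hx h73
  obtain ⟨i, -, hi⟩ := hζ.eq_pow_of_pow_eq_one hω.pow_eq_one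
  have hi0 : (i : ZMod 73) ≠ 0 := fun e => by
    rw [ZMod.natCast_eq_zero_iff, ← hζ.pow_eq_one_iff_dvd, hi] at e
    exact hω.ne_one (by norm_num) e
  have hpow : ∀ a b : ℕ, ζ ^ a = ζ ^ b ↔ (a : ZMod 73) = (b : ZMod 73) := fun a b => by
    rw [ZMod.natCast_eq_natCast_iff', ← pow_mod_orderOf ζ a, ← pow_mod_orderOf ζ b, ← hζ.eq_orderOf]
    exact ⟨fun e => hζ.pow_inj (Nat.mod_lt _ (by norm_num)) (Nat.mod_lt _ (by norm_num)) e, fun e => by rw [e]⟩
  set lam' := (i : ZMod 73)⁻¹ • lam with hlam'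
  let c : ZMod 73 → ℕ := fun e => (Finset.univ.filter fun s => iota chevE8 (ZMod 73) lam' s = e).card
  have hs : ∀ s (e : ZMod 73), iota chevE8 (ZMod 73) lam' s = e ↔
      iota chevE8 (ZMod 73) lam s = (i : ZMod 73) * e := fun s e => by
    rw [hlam', map_smul, Pi.smul_apply, smul_eq_mul, inv_mul_eq_iff_eq_mul₀ hi0]
  have hm : ∀ e : ℕ, mult (up K (x : Matrix chevE8.Idx chevE8.Idx (ZMod 3))) (ω ^ e) =
      (if (e : ZMod 73) = 0 then 8 else 0) + c (e : ZMod 73) := by
    intro e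
    rw [hdiag, InvAux.mult_conj, InvAux.mult_diagonal, ← hi, ← pow_mul,
      Fintype.card_congr (Equiv.subtypeSum (p := fun u : chevE8.Idx => _)), Fintype.card_sum,
      Fintype.card_subtype, Fintype.card_subtype]
    congr 1
    · have h8 : ∀ u : Fin chevE8.rank, ((1 : K) = ζ ^ (i * e)) ↔ (e : ZMod 73) = 0 := fun _ => by
        rw [← pow_zero ζ, hpow, Nat.cast_zero, Nat.cast_mul, eq_comm, mul_eq_zero, or_iff_right hi0]
      simp only [Sum.elim_inl]
      split_ifs with he
      · exact (congrArg Finset.card (Finset.eq_univ_iff_forall.2 fun u =>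
          Finset.mem_filter.2 ⟨Finset.mem_univ _, (h8 u).2 he⟩)).trans (Finset.card_univ.trans (Fintype.card_fin _))
      · exact Finset.card_eq_zero.2 (Finset.eq_empty_iff_forall_notMem.2 fun u hu =>
          he ((h8 u).1 (Finset.mem_filter.1 hu).2))
    · refine congrArg Finset.card (Finset.filter_congr fun s _ => ?_)
      simp only [Sum.elim_inr]
      rw [hpow, ZMod.natCast_zmod_val, Nat.cast_mul, hs]
  have h3 : ∀ e : ZMod 73, c (3 * e) = c e := by
    intro e
    obtain ⟨n, rfl⟩ : ∃ n : ℕ, (n : ZMod 73) = e := ⟨e.val, ZMod.natCast_zmod_val e⟩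
    have h3' := hinv n
    rw [hm, hm, Nat.cast_mul, Nat.cast_ofNat] at h3'
    have h30 : (3 : ZMod 73) * (n : ZMod 73) = 0 ↔ (n : ZMod 73) = 0 := by
      rw [mul_eq_zero, or_iff_right small_ne.2.2.1]
    simp only [h30] at h3'
    omega
  have hc0 : 12 ≤ c 0 := by
    have e1 := hm 0
    rw [pow_zero, Nat.cast_zero, if_pos rfl] at e1
    omega
  have hlt : c 0 < chevE8.nroots := by
    obtain ⟨s, hsne⟩ := Function.ne_iff.1 fun e => hne (h0 e)
    refine lt_of_lt_of_le (Finset.card_lt_card (Finset.filter_ssubset.2 ⟨s, Finset.mem_univ _, ?_⟩))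
      (by rw [Finset.card_univ, Fintype.card_fin])
    rw [hs, mul_zero]
    exact hsne
  have key := h lam' h3 hc0 hlt
  change [8 + c 0, c 1, c 2, c 4, c 5, c 7, c 13] ∈ tgt73 at key
  simp only [List.map_cons, List.map_nil, hm, Nat.cast_zero, Nat.cast_one, Nat.cast_ofNat, if_pos,
    small_ne, if_false, zero_add]
  exact key

end Cfsg.Agent.Lib.E8NoPSL3
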