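import Cfsg.Agent.Lib.E8NoPSL3.IfaceCert
import Cfsg.Agent.Lib.E8NoPSL3.Inv
import Cfsg.Agent.Lib.E8NoPSL3.Ord

/-!
# No PSL₂(243) and no PSL₂(729) in E₈(3), from the finite certificates (helper9)
-/

set_option autoImplicit false

namespace Cfsg.Agent.Lib.E8NoPSL3

open Cfsg.Lie
open scoped MatrixGroups

namespace GlueAux

theorem wts_even : ∀ (a : List ℕ) (w : ℤ), w ∈ wts a → 2 ∣ w - (a.sum : ℤ)
  | [], w, hw => by simp_all [wts]
  | a :: as, w, hw => by
    simp only [wts, List.mem_flatMap, List.mem_map] at hw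
    obtain ⟨x, hx, k, -, rfl⟩ := hw
    obtain ⟨j, hj⟩ := wts_even as x hx
    refine ⟨-(k : ℤ) + x + j, ?_⟩
    rw [List.sum_cons, Nat.cast_add]
    linear_combination hj

variable {K : Type} [Field K]

theorem zpow_eq_zpow_iff {ω : K} {n : ℕ} (hω : IsPrimitiveRoot ω n) (hn : 0 < n) (a b : ℤ) :
    ω ^ a = ω ^ b ↔ a % (n : ℤ) = b % (n : ℤ) := by
  have h0 : ω ≠ 0 := hω.ne_zero hn.ne'
  rw [← div_eq_one_iff_eq (zpow_ne_zero _ h0), ← zpow_sub₀ h0, hω.zpow_eq_one_iff_dvd,
    Int.emod_eq_emod_iff_emod_sub_eq_zero, Int.dvd_iff_emod_eq_zero]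

/-- The multiplicities in terms of residues. -/
theorem cnt_eq (u : Kˣ) {n : ℕ} (hn : 0 < n) (hω : IsPrimitiveRoot ((u : K) ^ 2) n) (a : List ℕ) (ha : 2 ∣ a.sum)
    (i e : ℕ) : cnt (wts a) (fun w => ((u ^ w : Kˣ) : K) ^ 3 ^ i = ((u : K) ^ 2) ^ e) = res n a i e := by
  classical
  refine List.countP_congr fun w hw => ?_
  obtain ⟨k, hk⟩ : (2 : ℤ) ∣ w := (dvd_sub_left (by exact_mod_cast ha)).1 (wts_even a w hw)
  subst hk
  rw [decide_eq_true_iff, decide_eq_true_iff, ← zpow_eq_zpow_iff hω hn,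
    Int.mul_ediv_cancel_left k (by norm_num : (2 : ℤ) ≠ 0)]
  have e1 : ((u ^ (2 * k) : Kˣ) : K) ^ 3 ^ i = ((u : K) ^ 2) ^ (k * 3 ^ i) := by
    rw [Units.val_zpow_eq_zpow_val, ← zpow_natCast, ← zpow_mul, ← zpow_natCast (u : K) 2, ← zpow_mul]
    push_cast
    ring_nf
  beta_reduce
  rw [e1, zpow_natCast]

theorem res_two (a : List ℕ) (i : ℕ) : res 2 a i 1 = (wts a).countP fun w => decide ((w / 2) % 2 = 1) := by
  refine List.countP_congr fun w _ => ?_
  have e : (3 : ℤ) ^ i % 2 = 1 := by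
    induction i with
    | zero => rfl
    | succ i ih => rw [pow_succ, Int.mul_emod, ih]; rfl
  rw [decide_eq_true_iff, decide_eq_true_iff, Nat.cast_one, Nat.cast_ofNat, Int.mul_emod, e, mul_one,
    Int.emod_emod_of_dvd _ dvd_rfl]
  rfl

/-- An element of SL₂ of prime order 73 over a field of characteristic three is split over the closure. -/
theorem exists_split [IsAlgClosed K] [CharP K 3] {A : Matrix (Fin 2) (Fin 2) K} (hd : A.det = 1) (h73 : A ^ 73 = 1)
    (hA : A ≠ 1) : ∃ (u : Kˣ) (P : GL (Fin 2) K), IsPrimitiveRoot (u : K) 73 ∧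
      A * (P : Matrix (Fin 2) (Fin 2) K) =
        (P : Matrix (Fin 2) (Fin 2) K) * Matrix.diagonal ![(u : K), ((u⁻¹ : Kˣ) : K)] := by
  classical
  have h2 : (2 : K) ≠ 0 := fun e => by
    have : ((2 : ℕ) : K) = 0 := by exact_mod_cast e
    rw [CharP.cast_eq_zero_iff K 3] at this
    omega
  rw [Matrix.det_fin_two] at hd
  obtain ⟨y, hy⟩ := IsAlgClosed.exists_pow_nat_eq ((A 0 0 + A 1 1) ^ 2 - 4 : K) (n := 2) two_pos
  set x := (A 0 0 + A 1 1 + y) / 2 with hx
  have hroot : x * x - (A 0 0 + A 1 1) * x + 1 = 0 := by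
    rw [hx]; field_simp; linear_combination hy
  have hx0 : x ≠ 0 := fun e => by rw [e] at hroot; simp at hroot
  have eig : ∀ z : K, z * z - (A 0 0 + A 1 1) * z + 1 = 0 → ∃ v : Fin 2 → K, v ≠ 0 ∧ A.mulVec v = z • v := by
    intro z hz
    obtain ⟨v, hv, he⟩ := Matrix.exists_mulVec_eq_zero_iff.2 (show (A - z • (1 : Matrix (Fin 2) (Fin 2) K)).det = 0 by
      rw [Matrix.det_fin_two]
      simp
      linear_combination hz + hd)
    refine ⟨v, hv, ?_⟩
    rwa [Matrix.sub_mulVec, Matrix.smul_mulVec, Matrix.one_mulVec, sub_eq_zero] at he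
  obtain ⟨v, hv, hAv⟩ := eig x hroot
  obtain ⟨w, hw, hAw⟩ := eig x⁻¹ (by field_simp; linear_combination hroot)
  have hx73 : x ^ 73 = 1 := by
    have hp : ∀ k : ℕ, (A ^ k).mulVec v = x ^ k • v := by
      intro k
      induction k with
      | zero => simp
      | succ k ih => rw [pow_succ, ← Matrix.mulVec_mulVec, hAv, Matrix.mulVec_smul, ih, smul_smul, pow_succ, mul_comm]
    have h' := hp 73
    rw [h73, Matrix.one_mulVec] at h'
    have h'' : (x ^ 73 - 1) • v = 0 := by rw [sub_smul, one_smul, ← h', sub_self]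
    exact sub_eq_zero.1 ((smul_eq_zero.1 h'').resolve_right hv)
  have hx1 : x ≠ 1 := by
    intro e1
    rw [e1] at hroot
    set N := A - 1 with hN
    have hN2 : N * N = 0 := by
      ext i j
      fin_cases i <;> fin_cases j <;> simp [hN, Matrix.mul_apply, Fin.sum_univ_two]
      · linear_combination -hd - A 0 0 * hroot
      · linear_combination -(A 0 1) * hroot
      · linear_combination -(A 1 0) * hroot
      · linear_combination -hd - A 1 1 * hroot
    have hk : ∀ k : ℕ, A ^ k = k • N + 1 := by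
      intro k
      induction k with
      | zero => simp
      | succ k ih =>
        rw [pow_succ, ih, show A = N + 1 from (sub_add_cancel A 1).symm, add_mul, one_mul, mul_add, mul_one,
          smul_mul_assoc, hN2, smul_zero, zero_add, succ_nsmul]
        abel
    have h' := hk 73
    rw [h73, eq_comm, add_eq_right] at h'
    apply hA
    refine sub_eq_zero.1 ?_
    rw [← hN]
    ext i j
    have h'' := congrFun (congrFun h' i) j
    rw [Matrix.smul_apply, nsmul_eq_mul] at h''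
    have h73K : ((73 : ℕ) : K) ≠ 0 := by
      rw [Ne, CharP.cast_eq_zero_iff K 3]
      omega
    exact (mul_eq_zero.1 h'').resolve_left h73K
  have hne : x ≠ x⁻¹ := by
    intro e
    apply hx1
    have e2 : x ^ 2 = 1 := by rw [sq]; nth_rw 2 [e]; exact mul_inv_cancel₀ hx0
    calc x = (x ^ 2) ^ 36 * x := by rw [e2, one_pow, one_mul]
      _ = x ^ 73 := by rw [← pow_mul, ← pow_succ]
      _ = 1 := hx73
  have hdet : (Matrix.of ![![v 0, w 0], ![v 1, w 1]]).det ≠ 0 := by
    intro h0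
    obtain ⟨z, hz, he⟩ := Matrix.exists_mulVec_eq_zero_iff.2 h0
    have e1 : z 0 • v + z 1 • w = 0 := by
      funext i
      have := congrFun he i
      fin_cases i <;> simp [Matrix.mulVec, dotProduct, Fin.sum_univ_two] at this ⊢ <;> linear_combination this
    have e2 : (z 0 * x) • v + (z 1 * x⁻¹) • w = 0 := by
      have := congrArg A.mulVec e1
      rwa [Matrix.mulVec_add, Matrix.mulVec_smul, Matrix.mulVec_smul, hAv, hAw, Matrix.mulVec_zero, smul_smul,
        smul_smul] at this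
    have e3 : (z 0 * (x - x⁻¹)) • v = 0 := by
      funext i
      have h1 := congrFun e1 i
      have h2 := congrFun e2 i
      simp only [Pi.add_apply, Pi.smul_apply, smul_eq_mul, Pi.zero_apply] at h1 h2 ⊢
      linear_combination h2 - x⁻¹ * h1
    have e0 : z 0 = 0 := (mul_eq_zero.1 ((smul_eq_zero.1 e3).resolve_right hv)).resolve_right (sub_ne_zero.2 hne)
    rw [e0, zero_smul, zero_add] at e1
    have e4 : z 1 = 0 := (smul_eq_zero.1 e1).resolve_right hw
    exact hz (funext fun i => by fin_cases i <;> assumption)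
  refine ⟨Units.mk0 x hx0, Matrix.GeneralLinearGroup.mkOfDetNeZero _ hdet, ?_, ?_⟩
  · haveI : Fact (Nat.Prime 73) := ⟨by norm_num⟩
    exact IsPrimitiveRoot.iff_orderOf.2 (orderOf_eq_prime hx73 hx1)
  · show A * Matrix.of ![![v 0, w 0], ![v 1, w 1]] =
      Matrix.of ![![v 0, w 0], ![v 1, w 1]] * Matrix.diagonal ![x, ((Units.mk0 x hx0)⁻¹ : Kˣ)]
    rw [Units.val_inv_eq_inv_val, Units.val_mk0]
    ext i j
    have hv' := congrFun hAv i
    have hw' := congrFun hAw i
    simp only [Matrix.mulVec, dotProduct, Fin.sum_univ_two, Pi.smul_apply, smul_eq_mul] at hv' hw'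
    rw [Matrix.mul_apply, Fin.sum_univ_two, Matrix.mul_diagonal]
    fin_cases i <;> fin_cases j <;> simp at hv' hw' ⊢ <;> first | linear_combination hv' | linear_combination hw'

/-- The blocks of a faithful representation of PSL₂(3^f) in E₈(3). -/
theorem blocks (hR : RepStmt) {f : ℕ} (hf : 0 < f) [CharP K 3] [IsAlgClosed K] (ι : GaloisField 3 f →+* K)
    (φ : SL(2, GaloisField 3 f) →* GL chevE8.Idx (ZMod 3)) (hG : ∀ g, φ g ∈ chevE8.group (ZMod 3))
    (h1 : φ (-1) = 1) (hker : ∀ g, φ g = 1 → g = 1 ∨ g = -1) :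
    ∃ L : List (List ℕ × ℕ), (L.map fun b => b.2 * (wts b.1).length).sum = 248 ∧
      ((L.map blkMinus).sum = 112 ∨ (L.map blkMinus).sum = 128) ∧
      ∀ (g : SL(2, GaloisField 3 f)) (m : ℕ), 0 < m → ¬ 3 ∣ m → g ^ m = 1 → ∀ (u : Kˣ) (P : GL (Fin 2) K),
        (g : Matrix (Fin 2) (Fin 2) (GaloisField 3 f)).map ι * (P : Matrix (Fin 2) (Fin 2) K) =
          (P : Matrix (Fin 2) (Fin 2) K) * Matrix.diagonal ![(u : K), ((u⁻¹ : Kˣ) : K)] →
        IsPrimitiveRoot ((u : K) ^ 2) m →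
        (∀ b ∈ L, BlockOK m f b) ∧
        (∀ e : ℕ, mult (up K (φ g : Matrix chevE8.Idx chevE8.Idx (ZMod 3))) (((u : K) ^ 2) ^ (3 * e)) =
          mult (up K (φ g : Matrix chevE8.Idx chevE8.Idx (ZMod 3))) (((u : K) ^ 2) ^ e)) ∧
        ∀ e : ℕ, mult (up K (φ g : Matrix chevE8.Idx chevE8.Idx (ZMod 3))) (((u : K) ^ 2) ^ e) =
          (L.map fun b => blk m b e).sum := by
  classical
  haveI : Fact (Nat.Prime 3) := ⟨by norm_num⟩
  letI : Fintype (GaloisField 3 f) := Fintype.ofFinite _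
  obtain ⟨L, hdim, hL, hsp⟩ := hR f (GaloisField 3 f) hf
    (by rw [Fintype.card_eq_nat_card, GaloisField.card 3 f hf.ne']) K ι chevE8.Idx
    ((Units.coeHom _).comp φ) (by simp [h1])
  refine ⟨L, ?_, ?_, fun g m hm hm3 hgm u P he hω => ?_⟩
  · rw [hdim, Fintype.card_sum, Fintype.card_fin, Fintype.card_fin]
    rfl
  · let s : SL(2, GaloisField 3 f) := ⟨!![0, 1; -1, 0], by simp [Matrix.det_fin_two_of]⟩
    have hss : s * s = -1 := by
      refine Subtype.ext ?_
      rw [Matrix.SpecialLinearGroup.coe_mul, Matrix.SpecialLinearGroup.coe_neg, Matrix.SpecialLinearGroup.coe_one]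
      show !![0, 1; -1, 0] * !![(0 : GaloisField 3 f), 1; -1, 0] = -1
      ext i j
      fin_cases i <;> fin_cases j <;> simp
    have hs4 : s ^ 4 = 1 := by
      show s ^ (2 * 2) = 1
      rw [pow_mul, pow_two s, hss, neg_one_sq]
    have hts : φ s * φ s = 1 := by rw [← map_mul, hss, h1]
    have hsne : φ s ≠ 1 := fun e => by
      rcases hker s e with h | h <;> simpa [s] using congrArg (fun a : SL(2, GaloisField 3 f) => a.1 0 0) h
    obtain ⟨y, hy⟩ := IsAlgClosed.exists_pow_nat_eq (-1 : K) (n := 2) two_pos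
    have hy0 : y ≠ 0 := fun e => by simp [e] at hy
    have h2 : (2 : K) ≠ 0 := fun e => by
      have : ((2 : ℕ) : K) = 0 := by exact_mod_cast e
      rw [CharP.cast_eq_zero_iff K 3] at this
      omega
    let P : GL (Fin 2) K := Matrix.GeneralLinearGroup.mkOfDetNeZero !![1, 1; y, -y] (by
      rw [Matrix.det_fin_two_of]
      intro e
      exact mul_ne_zero h2 hy0 (by linear_combination -e))
    obtain ⟨-, hm⟩ := hsp s 4 (by norm_num) (by norm_num) hs4 (Units.mk0 y hy0) P (by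
      show (!![0, 1; -1, 0] : Matrix (Fin 2) (Fin 2) (GaloisField 3 f)).map ι * !![1, 1; y, -y] =
        !![1, 1; y, -y] * Matrix.diagonal ![y, ((Units.mk0 y hy0)⁻¹ : Kˣ)]
      have hyi : y⁻¹ = -y := inv_eq_of_mul_eq_one_right (by linear_combination -hy)
      rw [Units.val_inv_eq_inv_val, Units.val_mk0, hyi]
      ext i j
      fin_cases i <;> fin_cases j <;> simp [Matrix.mul_apply, Fin.sum_univ_two] <;> linear_combination -hy)
    have hm' := hm (((y : K) ^ 2) ^ 1)
    have hprim : IsPrimitiveRoot ((y : K) ^ 2) 2 := hy ▸ IsPrimitiveRoot.neg_one 3 (by norm_num)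
    have hsum : (L.map blkMinus).sum =
        mult (up K (φ s : Matrix chevE8.Idx chevE8.Idx (ZMod 3))) (-1) := by
      rw [← hy, ← pow_one (y ^ 2)]
      refine Eq.trans ?_ hm'.symm
      refine congrArg List.sum (List.map_congr_left fun b hb => ?_)
      have hc : ∀ i : ℕ, cnt (wts b.1) (fun e => ((Units.mk0 y hy0 ^ e : Kˣ) : K) ^ 3 ^ i = (y ^ 2) ^ 1) =
          (wts b.1).countP fun w => decide ((w / 2) % 2 = 1) := fun i =>
        (cnt_eq (Units.mk0 y hy0) two_pos hprim b.1 (hL b hb).2.2.1 i 1).trans (res_two b.1 i)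
      rw [List.map_congr_left (fun i _ => hc i), List.map_const', List.sum_replicate, List.length_range, smul_eq_mul]
      rfl
    rw [hsum]
    exact invFact K (φ s) (hG s) hts hsne
  · obtain ⟨hinv, hmu⟩ := hsp g m hm hm3 hgm u P he
    have hmult : ∀ e : ℕ, mult (up K (φ g : Matrix chevE8.Idx chevE8.Idx (ZMod 3))) (((u : K) ^ 2) ^ e) =
        (L.map fun b => blk m b e).sum := fun e => by
      refine (hmu _).trans (congrArg List.sum (List.map_congr_left fun b hb => ?_))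
      exact congrArg List.sum (List.map_congr_left fun i _ => cnt_eq u hm hω b.1 (hL b hb).2.2.1 i e)
    refine ⟨fun b hb => ⟨(hL b hb).1, (hL b hb).2.1, (hL b hb).2.2.1, (hL b hb).2.2.2, fun e _ => ?_⟩,
      fun e => ?_, hmult⟩
    · rw [← cnt_eq u hm hω b.1 (hL b hb).2.2.1, ← cnt_eq u hm hω b.1 (hL b hb).2.2.1, hinv b hb]
      simp only [pow_zero, pow_one]
    · have hc := hmu (((u : K) ^ 2) ^ (3 * e))
      have hc' := hmu (((u : K) ^ 2) ^ e)
      refine hc.trans (Eq.trans ?_ hc'.symm)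
      refine congrArg List.sum (List.map_congr_left fun b hb => ?_)
      set F : ℕ → ℕ := fun i => cnt (wts b.1) fun w => ((u ^ w : Kˣ) : K) ^ 3 ^ i = ((u : K) ^ 2) ^ (3 * e)
      have h3 : ∀ i : ℕ, (cnt (wts b.1) fun w => ((u ^ w : Kˣ) : K) ^ 3 ^ i = ((u : K) ^ 2) ^ e) = F (i + 1) := by
        intro i
        simp only [F, cnt]
        refine List.countP_congr fun w _ => ?_
        rw [decide_eq_true_iff, decide_eq_true_iff, pow_succ 3 i, pow_mul _ (3 ^ i) 3, mul_comm 3 e,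
          pow_mul _ e 3]
        exact ⟨fun h => by rw [h], fun h => frobenius_inj K 3 h⟩
      rw [List.map_congr_left (fun i _ => h3 i)]
      show ∑ i ∈ Finset.range b.2, F i = ∑ i ∈ Finset.range b.2, F (i + 1)
      have e1 := Finset.sum_range_succ F b.2
      have e2 := Finset.sum_range_succ' F b.2
      have e3 : F b.2 = F 0 := by
        simp only [F, pow_zero, pow_one]
        exact hinv b hb _
      omega

theorem exists_gl (f : ℕ) (hf : f ≠ 0) (h : 73 ∣ (((3 ^ f) ^ 2 - 1) * ((3 ^ f) ^ 2 - 3 ^ f)))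
    (hc : Nat.Coprime 73 (3 ^ f - 1)) :
    ∃ g : SL(2, GaloisField 3 f), g ^ 73 = 1 ∧ g ≠ 1 := by
  classical
  haveI : Fact (Nat.Prime 3) := ⟨by norm_num⟩
  haveI : Fact (Nat.Prime 73) := ⟨by norm_num⟩
  letI : Fintype (GaloisField 3 f) := Fintype.ofFinite _
  have hq : Fintype.card (GaloisField 3 f) = 3 ^ f := by rw [Fintype.card_eq_nat_card, GaloisField.card 3 f hf]
  obtain ⟨g, hg⟩ := exists_prime_orderOf_dvd_card' (G := GL (Fin 2) (GaloisField 3 f)) 73 (by
    rw [Matrix.card_GL_field, Fin.prod_univ_two, hq]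
    simpa using h)
  have hd : Matrix.GeneralLinearGroup.det g = 1 := by
    rw [← orderOf_eq_one_iff]
    refine Nat.eq_one_of_dvd_coprimes hc (hg ▸ orderOf_map_dvd _ g) ?_
    rw [← hq, ← Fintype.card_units]
    exact orderOf_dvd_card
  have hdet : (g : Matrix (Fin 2) (Fin 2) (GaloisField 3 f)).det = 1 := congrArg Units.val hd
  refine ⟨⟨g, hdet⟩, Subtype.ext ?_, fun e => ?_⟩
  · show (g : Matrix (Fin 2) (Fin 2) (GaloisField 3 f)) ^ 73 = 1
    exact (Units.val_pow_eq_pow_val g 73).symm.trans (congrArg Units.val (hg ▸ pow_orderOf_eq_one g : g ^ 73 = 1))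
  · have : g = 1 := Units.ext (congrArg Subtype.val e)
    rw [this, orderOf_one] at hg
    norm_num at hg

theorem exists_hom {F : Type*} [Field F] [Fintype F] {f : ℕ} (hf : f ≠ 0) (hF : Fintype.card F = 3 ^ f)
    (H : Subgroup ↥(chevE8.group (ZMod 3))) (e : ↥H ≃* Matrix.ProjectiveSpecialLinearGroup (Fin 2) F) :
    ∃ φ : SL(2, GaloisField 3 f) →* GL chevE8.Idx (ZMod 3), (∀ g, φ g ∈ chevE8.group (ZMod 3)) ∧
      φ (-1) = 1 ∧ ∀ g, φ g = 1 → g = 1 ∨ g = -1 := by
  classical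
  haveI : Fact (Nat.Prime 3) := ⟨by norm_num⟩
  letI : Fintype (GaloisField 3 f) := Fintype.ofFinite _
  let ε : GaloisField 3 f ≃+* F := FiniteField.ringEquivOfCardEq
    (by rw [hF, Fintype.card_eq_nat_card, GaloisField.card 3 f hf])
  let σ : SL(2, GaloisField 3 f) →* SL(2, F) := Matrix.SpecialLinearGroup.map (n := Fin 2) ε.toRingHom
  let q : SL(2, F) →* Matrix.ProjectiveSpecialLinearGroup (Fin 2) F := QuotientGroup.mk' _
  let φ : SL(2, GaloisField 3 f) →* GL chevE8.Idx (ZMod 3) :=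
    ((chevE8.group (ZMod 3)).subtype.comp H.subtype).comp (e.symm.toMonoidHom.comp (q.comp σ))
  have hφ : ∀ g, φ g = 1 ↔ σ g ∈ Subgroup.center SL(2, F) := fun g => by
    show (((e.symm (q (σ g)) : ↥H) : ↥(chevE8.group (ZMod 3))) : GL chevE8.Idx (ZMod 3)) = 1 ↔ _
    rw [OneMemClass.coe_eq_one, OneMemClass.coe_eq_one, e.symm.map_eq_one_iff]
    exact QuotientGroup.eq_one_iff _
  have hσ : Function.Injective σ := fun a b h => by
    ext i j
    exact ε.injective (congrFun (congrFun (congrArg Subtype.val h) i) j)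
  refine ⟨φ, fun g => Subtype.coe_prop _, (hφ _).2 ?_, fun g hg => ?_⟩
  · rw [Matrix.SpecialLinearGroup.mem_center_iff]
    refine ⟨-1, by simp, ?_⟩
    ext i j
    fin_cases i <;> fin_cases j <;> simp [σ]
  · have hc : g ∈ Subgroup.center SL(2, GaloisField 3 f) := by
      rw [Subgroup.mem_center_iff]
      intro h
      refine hσ ?_
      rw [map_mul, map_mul, Subgroup.mem_center_iff.1 ((hφ g).1 hg)]
    rw [Matrix.SpecialLinearGroup.mem_center_iff] at hc
    obtain ⟨r, hr, he⟩ := hc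
    rw [Fintype.card_fin, sq_eq_one_iff] at hr
    rcases hr with rfl | rfl
    · left
      exact Subtype.ext (by rw [← he, map_one, Matrix.SpecialLinearGroup.coe_one])
    · right
      exact Subtype.ext (by rw [← he, map_neg, map_one, Matrix.SpecialLinearGroup.coe_neg,
        Matrix.SpecialLinearGroup.coe_one])

theorem no729 (hR : RepStmt) (hC : Cert729Stmt) (hA : AlcoveStmt)
    (φ : SL(2, GaloisField 3 6) →* GL chevE8.Idx (ZMod 3)) (hG : ∀ g, φ g ∈ chevE8.group (ZMod 3))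
    (h1 : φ (-1) = 1) (hker : ∀ g, φ g = 1 → g = 1 ∨ g = -1) : False := by
  classical
  haveI : Fact (Nat.Prime 3) := ⟨by norm_num⟩
  haveI : CharP (AlgebraicClosure (ZMod 3)) 3 :=
    charP_of_injective_algebraMap (algebraMap (ZMod 3) (AlgebraicClosure (ZMod 3))).injective 3
  let ι : GaloisField 3 6 →+* AlgebraicClosure (ZMod 3) :=
    (IsAlgClosed.lift : GaloisField 3 6 →ₐ[ZMod 3] AlgebraicClosure (ZMod 3)).toRingHom
  obtain ⟨L, hdim, hminus, hg⟩ := blocks hR (by norm_num) ι φ hG h1 hker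
  obtain ⟨g, hg73, hg1⟩ := exists_gl 6 (by norm_num) (by norm_num) (by norm_num)
  obtain ⟨u, P, hu, hP⟩ := exists_split (A := (g : Matrix (Fin 2) (Fin 2) (GaloisField 3 6)).map ι)
    (by rw [← RingHom.mapMatrix_apply, ← RingHom.map_det, g.2, map_one])
    (by
      rw [← RingHom.mapMatrix_apply, ← map_pow, ← Matrix.SpecialLinearGroup.coe_pow, hg73,
        Matrix.SpecialLinearGroup.coe_one, map_one])
    (fun e => hg1 (Subtype.ext (Matrix.map_injective ι.injective
      (e.trans (Matrix.map_one ι (map_zero _) (map_one _)).symm))))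
  have hω : IsPrimitiveRoot ((u : AlgebraicClosure (ZMod 3)) ^ 2) 73 := hu.pow_of_coprime 2 (by norm_num)
  obtain ⟨hB, hinv, hm⟩ := hg g 73 (by norm_num) (by norm_num) hg73 u P hP hω
  obtain ⟨h20, hnot⟩ := hC L hB hdim hminus
  apply hnot
  simp only [← hm]
  refine ordFact hA _ (φ g) (hG g) (by rw [← map_pow, hg73, map_one]) (fun e => ?_) _ hω hinv ?_
  · rcases hker g e with rfl | rfl
    · exact hg1 rfl
    · rw [show (73 : ℕ) = 2 * 36 + 1 by norm_num, pow_add, pow_mul, neg_one_sq, one_pow, one_mul, pow_one] at hg73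
      exact hg1 hg73
  · rwa [← pow_zero ((u : AlgebraicClosure (ZMod 3)) ^ 2), hm]

theorem no243 (hR : RepStmt) (hC : Cert243Stmt)
    (φ : SL(2, GaloisField 3 5) →* GL chevE8.Idx (ZMod 3)) (hG : ∀ g, φ g ∈ chevE8.group (ZMod 3))
    (h1 : φ (-1) = 1) (hker : ∀ g, φ g = 1 → g = 1 ∨ g = -1) : False := by
  classical
  haveI : Fact (Nat.Prime 3) := ⟨by norm_num⟩
  haveI : CharP (AlgebraicClosure (ZMod 3)) 3 :=
    charP_of_injective_algebraMap (algebraMap (ZMod 3) (AlgebraicClosure (ZMod 3))).injective 3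
  let ι : GaloisField 3 5 →+* AlgebraicClosure (ZMod 3) :=
    (IsAlgClosed.lift : GaloisField 3 5 →ₐ[ZMod 3] AlgebraicClosure (ZMod 3)).toRingHom
  obtain ⟨L, hdim, hminus, hg⟩ := blocks hR (by norm_num) ι φ hG h1 hker
  obtain ⟨c, hc⟩ := IsCyclic.exists_monoid_generator (α := (GaloisField 3 5)ˣ)
  have hoc : orderOf c = 242 := by
    rw [orderOf_eq_card_of_forall_mem_powers hc, Nat.card_units, GaloisField.card 3 5 (by norm_num)]
    norm_num
  have hot : orderOf (c ^ 2) = 121 := by rw [orderOf_pow, hoc]; norm_num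
  let g : SL(2, GaloisField 3 5) :=
    ⟨Matrix.diagonal ![((c ^ 2 : (GaloisField 3 5)ˣ) : GaloisField 3 5), (((c ^ 2)⁻¹ : (GaloisField 3 5)ˣ) : _)],
      by simp [Matrix.det_diagonal, Fin.prod_univ_two]⟩
  have hg121 : g ^ 121 = 1 := by
    refine Subtype.ext ?_
    rw [Matrix.SpecialLinearGroup.coe_pow, Matrix.SpecialLinearGroup.coe_one]
    show Matrix.diagonal _ ^ 121 = 1
    rw [Matrix.diagonal_pow, ← Matrix.diagonal_one]
    congr 1
    have ht : (c ^ 2) ^ 121 = 1 := hot ▸ pow_orderOf_eq_one _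
    funext i
    fin_cases i
    · exact (Units.val_pow_eq_pow_val _ _).symm.trans (congrArg Units.val ht)
    · refine (Units.val_pow_eq_pow_val _ _).symm.trans ?_
      rw [inv_pow, ht, inv_one, Units.val_one]
  set u : (AlgebraicClosure (ZMod 3))ˣ := Units.map (ι : GaloisField 3 5 →* AlgebraicClosure (ZMod 3)) (c ^ 2) with hu
  have hu121 : IsPrimitiveRoot (u : AlgebraicClosure (ZMod 3)) 121 := by
    refine IsPrimitiveRoot.iff_orderOf.2 ?_
    rw [orderOf_units, hu]
    exact (orderOf_injective (Units.map (ι : GaloisField 3 5 →* AlgebraicClosure (ZMod 3)))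
      (Units.map_injective (f := (ι : GaloisField 3 5 →* AlgebraicClosure (ZMod 3))) ι.injective) (c ^ 2)).trans hot
  obtain ⟨hB, -, -⟩ := hg g 121 (by norm_num) (by norm_num) hg121 u 1 (by
    rw [Units.val_one, mul_one, one_mul]
    show (Matrix.diagonal _).map ι = _
    rw [Matrix.diagonal_map (map_zero _)]
    congr 1
    funext i
    fin_cases i <;> simp [hu]) (hu121.pow_of_coprime 2 (by norm_num))
  obtain ⟨h112, h128⟩ := hC L hB hdim
  exact hminus.elim h112 h128

end GlueAux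

open GlueAux in
theorem noPSL (hR : RepStmt) (hC7 : Cert729Stmt) (hC2 : Cert243Stmt) (hA : AlcoveStmt)
    {F₂₄₃ F₇₂₉ : Type*} [Field F₂₄₃] [Fintype F₂₄₃] (h243 : Fintype.card F₂₄₃ = 243) [Field F₇₂₉] [Fintype F₇₂₉]
    (h729 : Fintype.card F₇₂₉ = 729) (H : Subgroup ↥(Cfsg.Lie.chevE8.group (ZMod 3))) :
    IsEmpty (↥H ≃* Matrix.ProjectiveSpecialLinearGroup (Fin 2) F₂₄₃) ∧
      IsEmpty (↥H ≃* Matrix.ProjectiveSpecialLinearGroup (Fin 2) F₇₂₉) := by
  refine ⟨⟨fun e => ?_⟩, ⟨fun e => ?_⟩⟩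
  · obtain ⟨φ, hG, h1, hker⟩ := exists_hom (f := 5) (by norm_num) (by rw [h243]; norm_num) H e
    exact no243 hR hC2 φ hG h1 hker
  · obtain ⟨φ, hG, h1, hker⟩ := exists_hom (f := 6) (by norm_num) (by rw [h729]; norm_num) H e
    exact no729 hR hC7 hA φ hG h1 hker

end Cfsg.Agent.Lib.E8NoPSL3
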