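import Cfsg.Prelude.Def_ChevE8
import Mathlib

/-!
Interface for the absence of PSL₂(243) and PSL₂(729) in E₈(3) (S5922): eigenvalue multiplicities on the adjoint
module on both sides.
-/

set_option autoImplicit false

namespace Cfsg.Agent.Lib.E8NoPSL3

open Cfsg.Lie
open scoped MatrixGroups

/-- The multiplicity of an eigenvalue, as the dimension of the eigenspace. -/
noncomputable def mult {n : Type*} [Fintype n] [DecidableEq n] {K : Type*} [Field K] (A : Matrix n n K) (c : K) : ℕ :=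
  Module.finrank K (Module.End.eigenspace (Matrix.toLin' A) c)

/-- A matrix over the prime field seen in a field of characteristic three. -/
def up {n : Type*} (K : Type*) [Field K] [CharP K 3] (A : Matrix n n (ZMod 3)) : Matrix n n K :=
  A.map (ZMod.castHom (dvd_refl 3) K)

/-- The seven multiplicities (exponent zero, then representatives of the six orbits of `e ↦ 3 e`) which occur for
elements of order 73 of E₈(3) with fixed space of dimension at least twenty. -/
def tgt73 : List (List ℕ) :=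
  [[20, 0, 3, 1, 9, 3, 3], [20, 1, 0, 3, 3, 9, 3], [20, 3, 1, 0, 3, 3, 9], [20, 3, 3, 9, 1, 0, 3],
    [20, 3, 9, 3, 0, 3, 1], [20, 9, 3, 3, 3, 1, 0], [32, 0, 1, 1, 8, 8, 0], [32, 0, 8, 8, 0, 1, 1],
    [32, 1, 0, 1, 0, 8, 8], [32, 1, 1, 0, 8, 0, 8], [32, 8, 0, 8, 1, 0, 1], [32, 8, 8, 0, 1, 1, 0]]

/-- The involutions of E₈(3) have eigenspaces of dimension 112 or 128 for the eigenvalue −1. -/
def InvStmt : Prop :=
  ∀ (K : Type) [Field K] [CharP K 3] (t : GL chevE8.Idx (ZMod 3)), t ∈ chevE8.group (ZMod 3) → t * t = 1 → t ≠ 1 →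
    mult (up K (t : Matrix chevE8.Idx chevE8.Idx (ZMod 3))) (-1) = 112 ∨
      mult (up K (t : Matrix chevE8.Idx chevE8.Idx (ZMod 3))) (-1) = 128

/-- The eigenvalue multiplicities of the elements of order 73 of E₈(3) with a large fixed space. -/
def OrdStmt : Prop :=
  ∀ (K : Type) [Field K] [CharP K 3] [IsAlgClosed K] (z : GL chevE8.Idx (ZMod 3)), z ∈ chevE8.group (ZMod 3) →
    z ^ 73 = 1 → z ≠ 1 → ∀ ω : K, IsPrimitiveRoot ω 73 →
    (∀ e : ℕ, mult (up K (z : Matrix chevE8.Idx chevE8.Idx (ZMod 3))) (ω ^ (3 * e)) =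
      mult (up K (z : Matrix chevE8.Idx chevE8.Idx (ZMod 3))) (ω ^ e)) →
    20 ≤ mult (up K (z : Matrix chevE8.Idx chevE8.Idx (ZMod 3))) 1 →
    [0, 1, 2, 4, 5, 7, 13].map (fun e : ℕ => mult (up K (z : Matrix chevE8.Idx chevE8.Idx (ZMod 3))) (ω ^ e)) ∈ tgt73

/-- The weights of the tensor product of twisted symmetric powers of the natural module with the given digits. -/
def wts : List ℕ → List ℤ
  | [] => [0]
  | a :: as => (wts as).flatMap fun e => (List.range (a + 1)).map fun k : ℕ => (a : ℤ) - 2 * (k : ℤ) + 3 * e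

theorem wts_nil : wts [] = [0] := by rw [wts.eq_def]

theorem wts_cons (a : ℕ) (as : List ℕ) : wts (a :: as) =
    (wts as).flatMap fun e => (List.range (a + 1)).map fun k : ℕ => (a : ℤ) - 2 * (k : ℤ) + 3 * e := by
  rw [wts.eq_2]

theorem wts_nil' : wts [] = [0] := by rw [wts.eq_1]

open scoped Classical in
/-- The number of entries of a list with a property. -/
noncomputable def cnt (l : List ℤ) (p : ℤ → Prop) : ℕ := l.countP fun e => decide (p e)

/-- A finite decomposition of a representation of SL₂ over a field of order `3 ^ f` into blocks `(a, d)`: the twists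
`i < d` of the module with digits `a`, whose eigenvalue multiplicities are invariant under the `d`-th twist. -/
def RepStmt : Prop :=
  ∀ (f : ℕ) (F : Type) [Field F] [Fintype F] [DecidableEq F], 0 < f → Fintype.card F = 3 ^ f →
  ∀ (K : Type) [Field K] [CharP K 3] [IsAlgClosed K] (ι : F →+* K) (n : Type) [Fintype n] [DecidableEq n]
    (ρ : SL(2, F) →* Matrix n n (ZMod 3)), ρ (-1) = 1 →
  ∃ L : List (List ℕ × ℕ),
    ((L.map fun b => b.2 * (wts b.1).length).sum = Fintype.card n) ∧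
    (∀ b ∈ L, b.1.length = f ∧ (∀ a ∈ b.1, a ≤ 2) ∧ 2 ∣ b.1.sum ∧ 0 < b.2) ∧
    ∀ (g : SL(2, F)) (m : ℕ), 0 < m → ¬ 3 ∣ m → g ^ m = 1 → ∀ (u : Kˣ) (P : GL (Fin 2) K),
      (g : Matrix (Fin 2) (Fin 2) F).map ι * (P : Matrix (Fin 2) (Fin 2) K) =
        (P : Matrix (Fin 2) (Fin 2) K) * Matrix.diagonal ![(u : K), ((u⁻¹ : Kˣ) : K)] →
      (∀ b ∈ L, ∀ c : K, cnt (wts b.1) (fun e => ((u ^ e : Kˣ) : K) ^ 3 ^ b.2 = c) =
        cnt (wts b.1) (fun e => ((u ^ e : Kˣ) : K) = c)) ∧
      ∀ c : K, mult (up K (ρ g)) c =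
        (L.map fun b => ((List.range b.2).map fun i =>
          cnt (wts b.1) fun e => ((u ^ e : Kˣ) : K) ^ 3 ^ i = c).sum).sum

end Cfsg.Agent.Lib.E8NoPSL3
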