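import Cfsg.Agent.Lib.E8NoPSL3.Iface
import Cfsg.Agent.Lib.H59.Homocyclic.Coweight

/-!
The finite computations behind S5922.
-/

set_option autoImplicit false

namespace Cfsg.Agent.Lib.E8NoPSL3

open Cfsg.Lie Cfsg.Agent.Lib.H59.Homocyclic

/-- The number of weights whose half, multiplied by `3 ^ i`, is congruent to `e`. -/
def res (n : ℕ) (a : List ℕ) (i : ℕ) (e : ℕ) : ℕ :=
  (wts a).countP fun w => decide ((w / 2 * 3 ^ i) % (n : ℤ) = (e : ℤ) % (n : ℤ))

/-- The multiplicity of the exponent `e` in a block. -/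
def blk (n : ℕ) (b : List ℕ × ℕ) (e : ℕ) : ℕ := ((List.range b.2).map fun i => res n b.1 i e).sum

/-- The multiplicity of the eigenvalue −1 of an involution in a block. -/
def blkMinus (b : List ℕ × ℕ) : ℕ := b.2 * (wts b.1).countP fun w => decide ((w / 2) % 2 = 1)

/-- The admissible blocks. -/
def BlockOK (n f : ℕ) (b : List ℕ × ℕ) : Prop :=
  b.1.length = f ∧ (∀ a ∈ b.1, a ≤ 2) ∧ 2 ∣ b.1.sum ∧ 0 < b.2 ∧ ∀ e < n, res n b.1 b.2 e = res n b.1 0 e

/-- No combination of blocks gives an involution and an element of order 73 as in E₈(3). -/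
def Cert729Stmt : Prop :=
  ∀ L : List (List ℕ × ℕ), (∀ b ∈ L, BlockOK 73 6 b) → (L.map fun b => b.2 * (wts b.1).length).sum = 248 →
    ((L.map blkMinus).sum = 112 ∨ (L.map blkMinus).sum = 128) →
    20 ≤ (L.map fun b => blk 73 b 0).sum ∧
      [0, 1, 2, 4, 5, 7, 13].map (fun e : ℕ => (L.map fun b => blk 73 b e).sum) ∉ tgt73

/-- No combination of blocks gives an involution as in E₈(3). -/
def Cert243Stmt : Prop :=
  ∀ L : List (List ℕ × ℕ), (∀ b ∈ L, BlockOK 121 5 b) → (L.map fun b => b.2 * (wts b.1).length).sum = 248 →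
    (L.map blkMinus).sum ≠ 112 ∧ (L.map blkMinus).sum ≠ 128

/-- The coweights modulo 73 whose distribution of root values is invariant under tripling and which kill at least
twelve but not all roots. -/
def AlcoveStmt : Prop :=
  ∀ lam : Fin chevE8.rank → ZMod 73,
    let c : ZMod 73 → ℕ := fun e => (Finset.univ.filter fun s => iota chevE8 (ZMod 73) lam s = e).card
    (∀ e, c (3 * e) = c e) → 12 ≤ c 0 → c 0 < chevE8.nroots →
      [8 + c 0, c 1, c 2, c 4, c 5, c 7, c 13] ∈ tgt73

end Cfsg.Agent.Lib.E8NoPSL3
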