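import Cfsg.Agent.Lib.E8NoPSL3.Borel

/-!
A simple section of a representation of SL₂ over a field of order `3 ^ f` in characteristic three has the eigenvalue
multiplicities of a tensor product of twisted symmetric powers.
-/

set_option autoImplicit false

namespace Cfsg.Agent.Lib.E8NoPSL3

open scoped MatrixGroups

variable {F : Type*} [Field F] [Fintype F] [DecidableEq F] {f : ℕ} {K : Type*} [Field K] [CharP K 3]

/-- The semi-invariant functions on the group. -/
def IndE (ι : F →+* K) (e : ℕ) : Submodule K (SL(2, F) → K) where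
  carrier := {h | (∀ x g, h (UU x * g) = h g) ∧ ∀ t g, h (TT t * g) = ι (t : F) ^ e * h g}
  zero_mem' := ⟨fun _ _ => rfl, fun _ _ => (mul_zero _).symm⟩
  add_mem' := fun {a b} ha hb => ⟨fun x g => by simp [ha.1 x g, hb.1 x g],
    fun t g => by simp [ha.2 t g, hb.2 t g, mul_add]⟩
  smul_mem' := fun c a ha => ⟨fun x g => by simp [ha.1 x g],
    fun t g => by simp [ha.2 t g, mul_left_comm]⟩

variable {ι : F →+* K} {e : ℕ}

omit [Fintype F] [DecidableEq F] [CharP K 3] in
theorem ext_two {h h' : SL(2, F) → K} (hh : h ∈ IndE ι e) (hh' : h' ∈ IndE ι e)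
    (hU : ∀ y g, h (g * UU y) = h g) (hU' : ∀ y g, h' (g * UU y) = h' g) (e1 : h 1 = h' 1) (e2 : h WW = h' WW) :
    h = h' := by
  funext g
  rcases bruhat g with ⟨x, t, rfl⟩ | ⟨x, t, y, rfl⟩
  · rw [hh.1, hh'.1, ← mul_one (TT t), hh.2, hh'.2, e1]
  · rw [hU, hU', mul_assoc, hh.1, hh'.1, hh.2, hh'.2, e2]

/-- The Hecke translate of a function. -/
def hecke (h : SL(2, F) → K) : SL(2, F) → K := ∑ y : F, trans SL(2, F) K (UU y * WW) h

omit [DecidableEq F] [CharP K 3] in
theorem hecke_apply (h : SL(2, F) → K) (g : SL(2, F)) : hecke h g = ∑ y : F, h (g * (UU y * WW)) := by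
  simp [hecke, trans_apply, Finset.sum_apply, mul_assoc]

theorem hecke_spec (hf : Fintype.card F = 3 ^ f) (hf0 : 0 < f) {h : SL(2, F) → K} (hh : h ∈ IndE ι e)
    (hU : ∀ y g, h (g * UU y) = h g) :
    hecke h ∈ IndE ι e ∧ (∀ y g, hecke h (g * UU y) = hecke h g) ∧ hecke h 1 = 0 ∧
      hecke h WW = (-1) ^ e * h 1 + (if 3 ^ f - 1 ∣ e then -h WW else 0) := by
  classical
  refine ⟨⟨fun x g => ?_, fun t g => ?_⟩, fun y g => ?_, ?_, ?_⟩
  · simp only [hecke_apply]
    exact Finset.sum_congr rfl fun y _ => by rw [mul_assoc, hh.1]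
  · simp only [hecke_apply, Finset.mul_sum]
    exact Finset.sum_congr rfl fun y _ => by rw [mul_assoc, hh.2]
  · simp only [hecke_apply]
    refine Fintype.sum_equiv (Equiv.addLeft y) _ _ fun z => ?_
    rw [Equiv.coe_addLeft, ← UU_add, mul_assoc, mul_assoc]
  · simp only [hecke_apply, one_mul, hh.1]
    rw [Finset.sum_const, Finset.card_univ, hf, nsmul_eq_mul, Nat.cast_pow,
      show ((3 : ℕ) : K) = 0 from CharP.cast_eq_zero K 3, zero_pow hf0.ne', zero_mul]
  · rw [hecke_apply, ← Finset.sum_erase_add _ _ (Finset.mem_univ (0 : F)), add_comm]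
    congr 1
    · rw [← mul_assoc, WUW_zero, ← mul_one (TT (-1)), hh.2]
      simp
    · have h1 : ∀ y : Fˣ, h (WW * (UU (y : F) * WW)) = ι ((-y⁻¹ : Fˣ) : F) ^ e * h WW := by
        intro y
        rw [← mul_assoc, WUW, hU, mul_assoc, hh.1, hh.2]
      have h2 : ∑ y ∈ Finset.univ.erase (0 : F), h (WW * (UU y * WW)) = ∑ y : Fˣ, h (WW * (UU (y : F) * WW)) := by
        refine Finset.sum_bij' (fun y hy => Units.mk0 y (Finset.ne_of_mem_erase hy)) (fun y _ => (y : F))
          (fun y hy => Finset.mem_univ _) (fun y _ => Finset.mem_erase.2 ⟨y.ne_zero, Finset.mem_univ _⟩)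
          (fun y hy => rfl) (fun y _ => Units.ext rfl) (fun y hy => rfl)
      rw [h2, Finset.sum_congr rfl (fun y _ => h1 y), ← Finset.sum_mul]
      have h3 : ∑ y : Fˣ, ι ((-y⁻¹ : Fˣ) : F) ^ e = ι (∑ t : Fˣ, (t : F) ^ e) := by
        rw [map_sum]
        refine Fintype.sum_equiv ((Equiv.inv Fˣ).trans (Equiv.neg Fˣ)) _ _ fun y => ?_
        simp
      rw [h3, show (∑ t : Fˣ, (t : F) ^ e) = if 3 ^ f - 1 ∣ e then -1 else 0 by
        rw [← hf]; simpa using FiniteField.sum_pow_units F e]
      split_ifs <;> simp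

/-- The coordinate functional of a tensor product as a map to the functions on the group. -/
noncomputable def phiT (ι : F →+* K) (a : Fin f → Fin 3) : (Ix a → K) →ₗ[K] SL(2, F) → K :=
  LinearMap.pi fun g => (LinearMap.proj (lo a)).comp
    (Matrix.toLin' (tens a ((g : Matrix (Fin 2) (Fin 2) F).map ι)))

/-- The tensor product as a representation. -/
noncomputable def repT (ι : F →+* K) (a : Fin f → Fin 3) : SL(2, F) →* Module.End K (Ix a → K) where
  toFun g := Matrix.toLin' (tens a ((g : Matrix (Fin 2) (Fin 2) F).map ι))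
  map_one' := by rw [Matrix.SpecialLinearGroup.coe_one, Matrix.map_one _ (map_zero _) (map_one _), tens_one,
    Matrix.toLin'_one]; rfl
  map_mul' g h := by rw [Matrix.SpecialLinearGroup.coe_mul, Matrix.map_mul, tens_mul, Matrix.toLin'_mul]; rfl

omit [Fintype F] [DecidableEq F] in
theorem phiT_apply (a : Fin f → Fin 3) (v : Ix a → K) (g : SL(2, F)) :
    phiT ι a v g = ∑ l, tens a ((g : Matrix (Fin 2) (Fin 2) F).map ι) (lo a) l * v l := rfl

omit [Fintype F] [DecidableEq F] in
theorem phiT_rep (a : Fin f → Fin 3) (v : Ix a → K) (g : SL(2, F)) :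
    phiT ι a (repT ι a g v) = trans SL(2, F) K g (phiT ι a v) := by
  funext x
  show phiT ι a (repT ι a g v) x = phiT ι a v (x * g)
  show repT ι a x (repT ι a g v) (lo a) = repT ι a (x * g) v (lo a)
  rw [map_mul, Module.End.mul_apply]

omit [Fintype F] [DecidableEq F] [CharP K 3] in
theorem map_UU (x : F) : ((UU x : SL(2, F)) : Matrix (Fin 2) (Fin 2) F).map ι = !![1, ι x; 0, 1] := by
  ext i j; fin_cases i <;> fin_cases j <;> simp [coe_UU]

omit [Fintype F] [DecidableEq F] [CharP K 3] in
theorem map_LL (x : F) : ((LL x : SL(2, F)) : Matrix (Fin 2) (Fin 2) F).map ι = !![1, 0; ι x, 1] := by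
  ext i j; fin_cases i <;> fin_cases j <;> simp [coe_LL]

omit [Fintype F] [DecidableEq F] [CharP K 3] in
theorem map_TT (t : Fˣ) : ((TT t : SL(2, F)) : Matrix (Fin 2) (Fin 2) F).map ι =
    Matrix.diagonal ![((Units.map ι.toMonoidHom t : Kˣ) : K), (((Units.map ι.toMonoidHom t)⁻¹ : Kˣ) : K)] := by
  ext i j; fin_cases i <;> fin_cases j <;> simp [coe_TT]

/-- The number with given digits. -/
def num (a : Fin f → Fin 3) : ℕ := ∑ i, (a i).val * 3 ^ i.val

theorem exists_num : ∀ {f : ℕ} {n : ℕ}, n < 3 ^ f → ∃ a : Fin f → Fin 3, num a = n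
  | 0, n, h => ⟨Fin.elim0, by simp only [pow_zero] at h; simp [num]; omega⟩
  | f + 1, n, h => by
    obtain ⟨a, ha⟩ := exists_num (f := f) (n := n / 3) (by rw [pow_succ] at h; omega)
    refine ⟨Fin.cons ⟨n % 3, Nat.mod_lt _ (by omega)⟩ a, ?_⟩
    simp only [num, Fin.sum_univ_succ, Fin.val_zero, pow_zero, mul_one, Fin.cons_zero, Fin.cons_succ, Fin.val_succ,
      pow_succ, ← mul_assoc, ← Finset.sum_mul] at ha ⊢
    omega

/-- The constraint linking the digits with the character. -/
theorem phiT_mem (hf : Fintype.card F = 3 ^ f) (a : Fin f → Fin 3) (ha : 3 ^ f - 1 ∣ e + num a) (v : Ix a → K) :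
    phiT ι a v ∈ IndE ι e := by
  refine ⟨fun x g => ?_, fun t g => ?_⟩
  · show repT ι a (UU x * g) v (lo a) = repT ι a g v (lo a)
    rw [map_mul, Module.End.mul_apply]
    generalize repT ι a g v = w
    show ∑ l, tens a ((UU x : Matrix (Fin 2) (Fin 2) F).map ι) (lo a) l * w l = w (lo a)
    rw [map_UU]
    simp [tens_upper_row]
  · show repT ι a (TT t * g) v (lo a) = ι (t : F) ^ e * repT ι a g v (lo a)
    rw [map_mul, Module.End.mul_apply]
    generalize repT ι a g v = w
    show ∑ l, tens a ((TT t : Matrix (Fin 2) (Fin 2) F).map ι) (lo a) l * w l = _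
    rw [map_TT, tens_diag, Finset.sum_eq_single (lo a) (fun l _ hl => by
      rw [Matrix.diagonal_apply_ne _ hl.symm, zero_mul]) (fun h => absurd (Finset.mem_univ _) h),
      Matrix.diagonal_apply_eq]
    congr 1
    set u : Kˣ := Units.map ι.toMonoidHom t with hu
    have hw : wt a (lo a) = -((num a : ℕ) : ℤ) := by
      rw [num, Nat.cast_sum, ← Finset.sum_neg_distrib]
      refine Finset.sum_congr rfl fun i _ => ?_
      simp only [lo, Fin.val_last]
      push_cast
      ring
    have hu1 : u ^ (e + num a) = 1 := by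
      obtain ⟨d, hd⟩ := ha
      rw [hd, pow_mul]
      have : t ^ (3 ^ f - 1) = 1 := by
        rw [← hf, ← Fintype.card_units]; exact pow_card_eq_one
      rw [hu, ← map_pow, this, map_one, one_pow]
    rw [show ι (t : F) ^ e = ((u ^ e : Kˣ) : K) by simp [hu]]
    congr 1
    rw [hw, zpow_neg, zpow_natCast, eq_comm, eq_inv_iff_mul_eq_one, ← pow_add, hu1]

variable (hf : Fintype.card F = 3 ^ f)
include hf

theorem poly_zero {α : Type*} [Fintype α] (c : α → K) (E : α → ℕ) (hE : Function.Injective E)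
    (hlt : ∀ a, E a < 3 ^ f) (h : ∀ x : F, ∑ a, c a * ι x ^ E a = 0) : c = 0 := by
  classical
  let P : Polynomial K := ∑ a, Polynomial.monomial (E a) (c a)
  have hcoef : ∀ a, P.coeff (E a) = c a := fun a => by
    simp only [P, Polynomial.finsetSum_coeff, Polynomial.coeff_monomial]
    rw [Finset.sum_eq_single a (fun b _ hb => if_neg fun e' => hb (hE e')) (fun h => absurd (Finset.mem_univ _) h),
      if_pos rfl]
  have hP : P = 0 := by
    refine Polynomial.eq_zero_of_natDegree_lt_card_of_eval_eq_zero (R := K) P (ι.injective) (fun x => ?_) ?_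
    · simp only [P, Polynomial.eval_finsetSum, Polynomial.eval_monomial]
      exact h x
    · rw [hf]
      refine lt_of_le_of_lt (Polynomial.natDegree_sum_le_of_forall_le (n := 3 ^ f - 1) _ _ fun a _ =>
        (Polynomial.natDegree_monomial_le _).trans (by have := hlt a; omega)) ?_
      have : 0 < 3 ^ f := by positivity
      omega
  funext a
  rw [← hcoef a, hP, Polynomial.coeff_zero, Pi.zero_apply]

theorem phiT_injective (a : Fin f → Fin 3) : Function.Injective (phiT ι a) := by
  rw [← LinearMap.ker_eq_bot, Submodule.eq_bot_iff]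
  intro v hv
  refine poly_zero (ι := ι) hf v (fun l => ∑ i, ((a i).val - (l i).val) * 3 ^ i.val) ?_ ?_ fun x => ?_
  · intro l m hlm
    have := digits_inj (k := fun i => (a i).val - (l i).val) (l := fun i => (a i).val - (m i).val)
      (fun i => by have := (a i).2; omega) (fun i => by have := (a i).2; omega) hlm
    funext i
    have h1 := congrFun this i
    have h2 := (l i).2
    have h3 := (m i).2
    exact Fin.ext (by omega)
  · exact fun l => digits_lt fun i => by have := (a i).2; omega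
  · have := congrFun (LinearMap.mem_ker.1 hv) (LL x)
    rw [phiT_apply, map_LL] at this
    simp only [tens_lower_row] at this
    exact (Finset.sum_congr rfl fun l _ => mul_comm _ _).trans this

theorem gen_hi (a : Fin f → Fin 3) {W : Submodule K (Ix a → K)} (hW : Stable (repT ι a) W)
    (h : Pi.single (hi a) (1 : K) ∈ W) : W = ⊤ := by
  by_contra hne
  obtain ⟨ξ, hξ0, hξ⟩ := Submodule.exists_dual_map_eq_bot_of_lt_top (lt_top_iff_ne_top.2 hne) inferInstance
  have hker : ∀ v ∈ W, ξ v = 0 := fun v hv => by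
    have : ξ v ∈ W.map ξ := Submodule.mem_map_of_mem hv
    rwa [hξ, Submodule.mem_bot] at this
  have hc := poly_zero (ι := ι) hf (fun k => ξ (Pi.single k 1) * ∏ i, (Nat.choose (a i).val (k i).val : K))
    (fun k => ∑ i, (k i).val * 3 ^ i.val) (fun l m hlm => funext fun i => Fin.ext (congrFun (digits_inj
      (fun i => by have := (l i).2; have := (a i).2; omega) (fun i => by have := (m i).2; have := (a i).2; omega)
      hlm) i)) (fun l => digits_lt fun i => by have := (l i).2; have := (a i).2; omega) fun x => by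
    have h1 := hker _ (hW (LL x) _ h)
    have e1 : repT ι a (LL x) (Pi.single (hi a) 1) =
        ∑ k, ((∏ i, (Nat.choose (a i).val (k i).val : K)) * ι x ^ ∑ i, (k i).val * 3 ^ i.val) • Pi.single k (1 : K) := by
      show Matrix.toLin' (tens a ((LL x : Matrix (Fin 2) (Fin 2) F).map ι)) _ = _
      rw [Matrix.toLin'_apply, Matrix.mulVec_single_one, map_LL]
      funext k
      simp [Finset.sum_apply, Pi.single_apply, tens_lower_col]
    rw [e1, map_sum] at h1
    simp only [map_smul, smul_eq_mul] at h1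
    refine Eq.trans (Finset.sum_congr rfl fun k _ => ?_) h1
    ring
  refine hξ0 (LinearMap.pi_ext' fun k => LinearMap.ext_ring ?_)
  have := congrFun hc k
  rw [Pi.zero_apply, mul_eq_zero] at this
  simpa using this.resolve_right (coef_ne_zero a k)

omit hf in
theorem emult_repT (a : Fin f → Fin 3) (g : SL(2, F)) (u : Kˣ) (P : GL (Fin 2) K)
    (hP : (g : Matrix (Fin 2) (Fin 2) F).map ι * (P : Matrix (Fin 2) (Fin 2) K) =
      (P : Matrix (Fin 2) (Fin 2) K) * Matrix.diagonal ![(u : K), ((u⁻¹ : Kˣ) : K)]) (c : K) [DecidableEq K] :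
    emult (repT ι a) g c ⊤ = (Finset.univ.filter fun k : Ix a => ((u ^ wt a k : Kˣ) : K) = c).card := by
  have e1 : tens a ((g : Matrix (Fin 2) (Fin 2) F).map ι) * tens a (P : Matrix (Fin 2) (Fin 2) K) =
      tens a (P : Matrix (Fin 2) (Fin 2) K) * Matrix.diagonal fun k => ((u ^ wt a k : Kˣ) : K) := by
    rw [← tens_mul, hP, tens_mul, tens_diag]
  let Q : (Ix a → K) ≃ₗ[K] (Ix a → K) := Matrix.toLin'OfInv (R := K)
    (M := tens a ((P⁻¹ : GL (Fin 2) K) : Matrix (Fin 2) (Fin 2) K)) (M' := tens a (P : Matrix (Fin 2) (Fin 2) K))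
    (by rw [← tens_mul, ← Units.val_mul, inv_mul_cancel, Units.val_one, tens_one])
    (by rw [← tens_mul, ← Units.val_mul, mul_inv_cancel, Units.val_one, tens_one])
  set d : Ix a → K := fun k => ((u ^ wt a k : Kˣ) : K) with hd
  let D : Module.End K (Ix a → K) := Matrix.toLin' (Matrix.diagonal d)
  have hQ : ∀ v, repT ι a g (Q v) = Q (D v) := fun v => by
    show Matrix.toLin' _ (Matrix.toLin' _ v) = Matrix.toLin' _ (Matrix.toLin' _ v)
    rw [← Module.End.mul_apply, ← Module.End.mul_apply]
    show (Matrix.toLin' _ ∘ₗ Matrix.toLin' _) v = (Matrix.toLin' _ ∘ₗ Matrix.toLin' _) v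
    rw [← Matrix.toLin'_mul, ← Matrix.toLin'_mul, e1]
  have heig : Module.End.eigenspace (repT ι a g) c =
      (Module.End.eigenspace D c).map (Q : (Ix a → K) →ₗ[K] (Ix a → K)) := by
    ext w
    rw [Submodule.mem_map_equiv, Module.End.mem_eigenspace_iff, Module.End.mem_eigenspace_iff]
    conv_lhs => rw [← Q.apply_symm_apply w, hQ, ← map_smul, Q.injective.eq_iff]
  have hdiag : ∀ v, v ∈ Module.End.eigenspace D c ↔ ∀ k, d k ≠ c → v k = 0 := fun v => by
    rw [Module.End.mem_eigenspace_iff, funext_iff]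
    refine forall_congr' fun k => ?_
    simp only [D, Matrix.toLin'_apply, Matrix.mulVec_diagonal, Pi.smul_apply, smul_eq_mul, mul_eq_mul_right_iff]
    tauto
  let res : ↥(Module.End.eigenspace D c) ≃ₗ[K] ({k : Ix a // d k = c} → K) :=
    { toFun := fun v k => v.1 k.1
      map_add' := fun v w => rfl
      map_smul' := fun r v => rfl
      invFun := fun w => ⟨fun k => if h : d k = c then w ⟨k, h⟩ else 0, (hdiag _).2 fun k hk => dif_neg hk⟩
      left_inv := fun v => Subtype.ext (funext fun k => by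
        by_cases h : d k = c
        · simp [h]
        · simp [h, (hdiag _).1 v.2 k h])
      right_inv := fun w => funext fun k => by simp [k.2] }
  rw [emult, top_inf_eq, heig, LinearEquiv.finrank_map_eq, res.finrank_eq, Module.finrank_fintype_fun_eq_card,
    Fintype.card_subtype]

omit hf in
theorem stable_range {V : Type*} [AddCommGroup V] [Module K V] {R : SL(2, F) →* Module.End K V}
    (Ψ : V →ₗ[K] SL(2, F) → K) {L : Submodule K V} (hL : Stable R L)
    (hΨ : ∀ h, ∀ v ∈ L, Ψ (R h v) = trans SL(2, F) K h (Ψ v)) : Stable (trans SL(2, F) K) (L.map Ψ) := by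
  rintro h _ ⟨v, hv, rfl⟩
  exact ⟨R h v, hL h v hv, hΨ h v hv⟩

theorem exists_digits [IsAlgClosed K] (hf0 : 0 < f) {n : Type*} [Fintype n] [DecidableEq n]
    (R : SL(2, F) →* Module.End K (n → K)) {N L : Submodule K (n → K)} (hN : Stable R N) (hc : Cov R N L)
    [DecidableEq K] :
    ∃ a : Fin f → Fin 3, ∀ (g : SL(2, F)) (m : ℕ), g ^ m = 1 → (m : K) ≠ 0 → ∀ (u : Kˣ) (P : GL (Fin 2) K),
      (g : Matrix (Fin 2) (Fin 2) F).map ι * (P : Matrix (Fin 2) (Fin 2) K) =
        (P : Matrix (Fin 2) (Fin 2) K) * Matrix.diagonal ![(u : K), ((u⁻¹ : Kˣ) : K)] → ∀ c : K,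
      emult R g c N + (Finset.univ.filter fun k : Ix a => ((u ^ wt a k : Kˣ) : K) = c).card = emult R g c L := by
  obtain ⟨hL, hlt, hmin⟩ := hc
  obtain ⟨φ, e, he, hφN, ⟨v0, hv0, hv0'⟩, hφU, hφT⟩ := exists_functional hf ι R hN hL hlt
  let Ψ : (n → K) →ₗ[K] SL(2, F) → K := LinearMap.pi fun g => φ.comp (R g)
  have hΨ : ∀ h : SL(2, F), ∀ v ∈ L, Ψ (R h v) = trans SL(2, F) K h (Ψ v) := fun h v _ => funext fun x => by
    show φ (R x (R h v)) = φ (R (x * h) v)
    rw [map_mul, Module.End.mul_apply]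
  set M := L.map Ψ with hM
  have hMs : Stable (trans SL(2, F) K) M := stable_range Ψ hL hΨ
  have hMI : ∀ h ∈ M, h ∈ IndE ι e := by
    rintro _ ⟨v, hv, rfl⟩
    refine ⟨fun x g => ?_, fun t g => ?_⟩
    · show φ (R (UU x * g) v) = φ (R g v)
      rw [map_mul, Module.End.mul_apply, hφU x _ (hL g v hv)]
    · show φ (R (TT t * g) v) = _ * φ (R g v)
      rw [map_mul, Module.End.mul_apply, hφT t _ (hL g v hv)]
  have hker : L ⊓ LinearMap.ker Ψ = N := by
    rcases hmin (L ⊓ LinearMap.ker Ψ) (fun h v hv => ⟨hL h v hv.1, by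
        show Ψ (R h v) = 0
        rw [hΨ h v hv.1, show Ψ v = 0 from hv.2, map_zero]⟩)
      (le_inf hlt.le fun v hv => funext fun g => hφN _ (hN g v hv)) inf_le_left with h | h
    · exact h
    · have h1 : Ψ v0 = 0 := (inf_eq_left.1 h) hv0
      have h2 := congrFun h1 1
      exact absurd (show φ v0 = 0 by simpa [Ψ] using h2) hv0'
  have hMmin : ∀ X, Stable (trans SL(2, F) K) X → X ≤ M → X ≠ ⊥ → X = M := by
    intro X hX hXM hX0
    rcases hmin (L ⊓ X.comap Ψ) (fun h v hv => ⟨hL h v hv.1, by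
        show Ψ (R h v) ∈ X
        rw [hΨ h v hv.1]; exact hX h _ hv.2⟩)
      (le_inf hlt.le fun v hv => by
        show Ψ v ∈ X
        rw [show Ψ v = 0 from (hker.ge hv).2]; exact X.zero_mem) inf_le_left with h | h
    · refine absurd ((Submodule.eq_bot_iff _).2 fun w hw => ?_) hX0
      obtain ⟨v, hv, rfl⟩ := hXM hw
      exact (hker.ge (h.le ⟨hv, hw⟩)).2
    · refine le_antisymm hXM ?_
      rintro _ ⟨v, hv, rfl⟩
      exact inf_eq_left.1 h hv
  have hM0 : M ≠ ⊥ := fun h => hv0' (by
    have : Ψ v0 ∈ M := Submodule.mem_map_of_mem hv0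
    rw [h, Submodule.mem_bot] at this
    simpa [Ψ] using congrFun this 1)
  obtain ⟨h0, hh0, hh0ne, hh0U⟩ := exists_fixed (fun x : F => trans SL(2, F) K (UU x))
    (fun x y => by rw [← map_mul, UU_add, add_comm, ← UU_add, map_mul])
    (fun x => by rw [← map_pow, UU_pow_three hf, map_one]) hM0 (fun x => hMs (UU x))
  have hU0 : ∀ y g, h0 (g * UU y) = h0 g := fun y g => congrFun (hh0U y) g
  have hI0 := hMI h0 hh0
  -- the digits and the image of the highest weight vector
  obtain ⟨a, hamem, hdiv⟩ : ∃ a : Fin f → Fin 3, phiT ι a (Pi.single (hi a) 1) ∈ M ∧ 3 ^ f - 1 ∣ e + num a := by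
    have hval : ∀ a : Fin f → Fin 3,
        (phiT ι a (Pi.single (hi a) 1) 1 = if lo a = hi a then 1 else 0) ∧
        ∀ y g, phiT ι a (Pi.single (hi a) (1 : K)) (g * UU y) = phiT ι a (Pi.single (hi a) 1) g := by
      intro a
      refine ⟨?_, fun y g => ?_⟩
      · show repT ι a 1 (Pi.single (hi a) 1) (lo a) = _
        rw [map_one, Module.End.one_apply, Pi.single_apply]
      · show repT ι a (g * UU y) _ (lo a) = repT ι a g _ (lo a)
        rw [map_mul, Module.End.mul_apply]
        refine congrArg (fun w => repT ι a g w (lo a)) ?_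
        show Matrix.toLin' (tens a ((UU y : Matrix (Fin 2) (Fin 2) F).map ι)) _ = _
        rw [Matrix.toLin'_apply, Matrix.mulVec_single_one, map_UU]
        funext k
        simp [tens_upper_col, Pi.single_apply]
    have hne : ∀ a : Fin f → Fin 3, phiT ι a (Pi.single (hi a) (1 : K)) ≠ 0 := fun a h => by
      rw [← map_zero (phiT ι a)] at h
      exact one_ne_zero ((congrFun (phiT_injective hf a h) (hi a)).symm.trans (Pi.single_eq_same _ _) |>.symm)
    have hlohi : ∀ a : Fin f → Fin 3, 0 < num a → lo a ≠ hi a := by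
      intro a ha h
      refine ha.ne' (Finset.sum_eq_zero fun i _ => ?_)
      have := congrArg Fin.val (congrFun h i)
      simp only [lo, hi, Fin.val_last, Fin.val_zero] at this
      rw [this, zero_mul]
    by_cases hconst : e = 0 ∧ h0 1 = h0 WW
    · obtain ⟨he0, hc0⟩ := hconst
      obtain ⟨a, ha⟩ := exists_num (f := f) (n := 0) (by positivity)
      refine ⟨a, ?_, by rw [he0, ha]; exact dvd_zero _⟩
      have hdiv : 3 ^ f - 1 ∣ e + num a := by rw [he0, ha]; exact dvd_zero _
      have hlh : lo a = hi a := by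
        funext i
        refine Fin.ext ?_
        have := Finset.sum_eq_zero_iff.1 ha i (Finset.mem_univ i)
        simpa [lo, hi] using this
      have hp1 : phiT ι a (Pi.single (hi a) 1) 1 = 1 := by rw [(hval a).1, if_pos hlh]
      have hpW : phiT ι a (Pi.single (hi a) 1) WW = 1 := by
        haveI : Subsingleton (Ix a) := ⟨fun k l => funext fun i => Fin.ext (by
          have h1 := (k i).2; have h2 := (l i).2
          have := congrArg Fin.val (congrFun hlh i)
          simp only [lo, hi, Fin.val_last, Fin.val_zero] at this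
          omega)⟩
        show repT ι a WW (Pi.single (hi a) 1) (lo a) = 1
        rw [Subsingleton.elim (lo a) (hi a)]
        show Matrix.toLin' (tens a _) _ _ = _
        rw [Matrix.toLin'_apply, Matrix.mulVec_single_one]
        show ∏ i, sym (a i) _ (hi a i) (hi a i) = 1
        refine Finset.prod_eq_one fun i _ => ?_
        have := congrArg Fin.val (congrFun hlh i)
        simp only [lo, hi, Fin.val_last, Fin.val_zero] at this
        have h3 : a i = 0 := Fin.ext this
        generalize hi a i = j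
        revert j
        rw [h3]
        intro j
        fin_cases j
        simp [sym]
      have e1 : h0 = h0 1 • phiT ι a (Pi.single (hi a) 1) :=
        ext_two hI0 ((IndE ι e).smul_mem _ (phiT_mem hf a hdiv _)) hU0
          (fun y g => by simp [(hval a).2 y g]) (by simp [hp1]) (by simp [hpW, hc0])
      have h10 : h0 1 ≠ 0 := fun h => hh0ne (by rw [e1, h, zero_smul])
      have := M.smul_mem (h0 1)⁻¹ hh0
      rwa [e1, Pi.smul_apply, hp1, smul_eq_mul, mul_one, smul_smul, inv_mul_cancel₀ h10, one_smul] at this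
    · obtain ⟨h1, hh1, hh1ne, hh1U, hh11⟩ : ∃ h1, h1 ∈ M ∧ h1 ≠ 0 ∧ (∀ y g, h1 (g * UU y) = h1 g) ∧ h1 1 = 0 := by
        by_cases h10 : h0 1 = 0
        · exact ⟨h0, hh0, hh0ne, hU0, h10⟩
        · obtain ⟨hs1, hs2, hs3, hs4⟩ := hecke_spec hf hf0 hI0 hU0
          refine ⟨hecke h0, Submodule.sum_mem _ fun y _ => hMs _ _ hh0, fun h => ?_, hs2, hs3⟩
          rw [h, Pi.zero_apply] at hs4
          by_cases hd : 3 ^ f - 1 ∣ e
          · rw [if_pos hd] at hs4
            have he0 : e = 0 := Nat.eq_zero_of_dvd_of_lt hd he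
            rw [he0, pow_zero, one_mul] at hs4
            exact hconst ⟨he0, by linear_combination -hs4⟩
          · rw [if_neg hd, add_zero] at hs4
            exact h10 ((mul_eq_zero.1 hs4.symm).resolve_left (pow_ne_zero _ (neg_ne_zero.2 one_ne_zero)))
      obtain ⟨a, ha⟩ := exists_num (f := f) (n := 3 ^ f - 1 - e) (by
        have : 0 < 3 ^ f := by positivity
        omega)
      have hdiv : 3 ^ f - 1 ∣ e + num a := by rw [ha, Nat.add_sub_cancel' he.le]
      refine ⟨a, ?_, hdiv⟩
      set p := phiT ι a (Pi.single (hi a) (1 : K)) with hp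
      have hp1 : p 1 = 0 := by rw [hp, (hval a).1, if_neg (hlohi a (by omega))]
      have hW1 : h1 WW ≠ 0 := fun h => hh1ne (ext_two (hMI _ hh1) (IndE ι e).zero_mem hh1U (fun _ _ => rfl) hh11 h)
      have e1 : p = (p WW / h1 WW) • h1 :=
        ext_two (phiT_mem hf a hdiv _) ((IndE ι e).smul_mem _ (hMI _ hh1)) (hval a).2
          (fun y g => by simp [hh1U y g]) (by simp [hp1, hh11]) (by simp [hW1])
      rw [e1]
      exact M.smul_mem _ hh1
  have hrange : LinearMap.range (phiT ι a) ≤ M := by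
    rw [LinearMap.range_le_iff_comap]
    exact gen_hi hf a (fun g v hv => by
      show phiT ι a (repT ι a g v) ∈ M
      rw [phiT_rep]; exact hMs g _ hv) hamem
  have hrs : Stable (trans SL(2, F) K) ((⊤ : Submodule K (Ix a → K)).map (phiT ι a)) :=
    stable_range _ (stable_top (repT ι a)) fun h v _ => phiT_rep a v h
  have hMeq : (⊤ : Submodule K (Ix a → K)).map (phiT ι a) = M := by
    refine hMmin _ hrs (by rwa [Submodule.map_top]) fun h => ?_
    rw [Submodule.map_top, LinearMap.range_eq_bot] at h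
    have h' := phiT_injective hf a (show phiT ι a (Pi.single (hi a) 1) = phiT ι a 0 by rw [h, map_zero]; rfl)
    have h2 := congrFun h' (hi a)
    rw [Pi.single_eq_same, Pi.zero_apply] at h2
    exact one_ne_zero h2
  refine ⟨a, fun g m hg hm u P hP c => ?_⟩
  have e1 := emult_map (R' := trans SL(2, F) K) hg hm c Ψ hL hΨ
  have e2 := emult_map (R' := trans SL(2, F) K) hg hm c (phiT ι a) (stable_top (repT ι a))
    fun h v _ => phiT_rep a v h
  rw [hker, ← hM] at e1
  rw [LinearMap.ker_eq_bot.2 (phiT_injective hf a), top_inf_eq, hMeq, emult_repT a g u P hP c,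
    show emult (repT ι a) g c ⊥ = 0 by rw [emult, bot_inf_eq, finrank_bot]] at e2
  omega

end Cfsg.Agent.Lib.E8NoPSL3
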