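import Cfsg.Agent.Lib.E8NoPSL3.Principal

/-!
The block decomposition of a representation of SL₂ over the prime field of three elements.
-/

set_option autoImplicit false

namespace Cfsg.Agent.Lib.E8NoPSL3

open scoped MatrixGroups

theorem emult_top {G K n : Type*} [Monoid G] [Field K] [Fintype n] [DecidableEq n] (R : G →* Module.End K (n → K))
    (g : G) (c : K) : emult R g c ⊤ = Module.finrank K ↥(Module.End.eigenspace (R g) c) := by
  rw [emult, top_inf_eq]

theorem repFact : RepStmt := by
  intro f F _ _ _ hf0 hf K _ _ _ ι n _ _ ρ hρ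
  classical
  let R : SL(2, F) →* Module.End K (n → K) :=
    { toFun := fun g => Matrix.toLin' (up K (ρ g))
      map_one' := by rw [map_one, up, Matrix.map_one _ (map_zero _) (map_one _), Matrix.toLin'_one]; rfl
      map_mul' := fun g h => by simp only [up]; rw [map_mul, Matrix.map_mul, Matrix.toLin'_mul]; rfl }
  have hfix : ∀ j, Fixes R (frob j) := by
    intro j g i k
    show frob j (LinearMap.toMatrix' (Matrix.toLin' (up K (ρ g))) i k) = _
    rw [LinearMap.toMatrix'_toLin', up, Matrix.map_apply]
    conv_rhs => rw [show LinearMap.toMatrix' (R g) = up K (ρ g) from LinearMap.toMatrix'_toLin' _, up, Matrix.map_apply]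
    rw [frob_apply, ← map_pow, ZMod.pow_card_pow]
  let Adm : SL(2, F) → Kˣ → Prop := fun g u => ∃ P : GL (Fin 2) K,
    (g : Matrix (Fin 2) (Fin 2) F).map ι * (P : Matrix (Fin 2) (Fin 2) K) =
      (P : Matrix (Fin 2) (Fin 2) K) * Matrix.diagonal ![(u : K), ((u⁻¹ : Kˣ) : K)]
  have main : ∀ k : ℕ, ∀ N : Submodule K (n → K), Fintype.card n ≤ Module.finrank K ↥N + k → Stable R N →
      tw (frob 1) N = N →
      ∃ L : List (List ℕ × ℕ), (∀ b ∈ L, b.1.length = f ∧ (∀ a ∈ b.1, a ≤ 2) ∧ 2 ∣ b.1.sum ∧ 0 < b.2) ∧
        ∀ (g : SL(2, F)) (m : ℕ), g ^ m = 1 → (m : K) ≠ 0 → ∀ u : Kˣ, Adm g u →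
          (∀ b ∈ L, ∀ c : K, cnt (wts b.1) (fun e => ((u ^ e : Kˣ) : K) ^ 3 ^ b.2 = c) =
            cnt (wts b.1) (fun e => ((u ^ e : Kˣ) : K) = c)) ∧
          ∀ c : K, emult R g c N + (L.map fun b => ((List.range b.2).map fun i =>
            cnt (wts b.1) fun e => ((u ^ e : Kˣ) : K) ^ 3 ^ i = c).sum).sum = emult R g c ⊤ := by
    intro k
    induction k with
    | zero =>
      intro N hk hN _
      have hN' : N = ⊤ := Submodule.eq_top_of_finrank_eq (le_antisymm (Submodule.finrank_le N)
        (by rw [Module.finrank_fintype_fun_eq_card]; omega))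
      exact ⟨[], by simp, fun g m _ _ u _ => ⟨by simp, fun c => by simp [hN']⟩⟩
    | succ k ih =>
      intro N hk hN hNs
      by_cases hne : N = ⊤
      · exact ⟨[], by simp, fun g m _ _ u _ => ⟨by simp, fun c => by simp [hne]⟩⟩
      obtain ⟨L, N', d, hc, hd, hN', hN's, hlt, hstep⟩ := exists_step R hfix hN hNs hne
      have := Submodule.finrank_lt_finrank_of_lt hlt
      obtain ⟨Ls, hLs1, hLs2⟩ := ih N' (by omega) hN' hN's
      obtain ⟨a, ha⟩ := exists_digits (ι := ι) hf hf0 R hN hc
      have hwt : ∀ (g : SL(2, F)) (m : ℕ), g ^ m = 1 → (m : K) ≠ 0 → ∀ u : Kˣ, Adm g u → ∀ c : K,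
          emult R g c N + cnt (wts (List.ofFn fun i => (a i).val)) (fun e => ((u ^ e : Kˣ) : K) = c) =
            emult R g c L := by
        rintro g m hg hm u ⟨P, hP⟩ c
        have := ha g m hg hm u P hP c
        rw [cnt_wts]
        convert this using 4
      have h2 : ((2 : ℕ) : K) ≠ 0 := by
        rw [Ne, CharP.cast_eq_zero_iff K 3]; decide
      have hsum : 2 ∣ (List.ofFn fun i => (a i).val).sum := by
        have hneg : (-1 : SL(2, F)) ^ 2 = 1 := by rw [sq]; simp
        have hadm : Adm (-1) (-1) := ⟨1, by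
          ext i j; fin_cases i <;> fin_cases j <;> simp⟩
        have hR1 : R (-1) = 1 := by
          show Matrix.toLin' (up K (ρ (-1))) = 1
          rw [hρ, up, Matrix.map_one _ (map_zero _) (map_one _), Matrix.toLin'_one]; rfl
        have hE : Module.End.eigenspace (R (-1)) 1 = ⊤ := by
          refine Submodule.eq_top_iff'.2 fun v => ?_
          rw [Module.End.mem_eigenspace_iff, hR1, one_smul]; rfl
        have h := hwt (-1) 2 hneg h2 (-1) hadm 1
        have e0 : ∀ X : Submodule K (n → K), emult R (-1) 1 X = Module.finrank K ↥X := fun X => by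
          unfold emult
          rw [hE, inf_top_eq]
        rw [e0, e0, cnt_wts] at h
        have := Submodule.finrank_lt_finrank_of_lt hc.2.1
        obtain ⟨kk, hkk⟩ := Finset.card_pos.1 (show 0 < _ by omega : 0 < (Finset.univ.filter
          fun k : Ix a => (((-1 : Kˣ) ^ wt a k : Kˣ) : K) = 1).card)
        have hev := (Finset.mem_filter.1 hkk).2
        have heven : Even (wt a kk) := by
          rcases Int.even_or_odd (wt a kk) with h' | h'
          · exact h'
          · rw [h'.neg_one_zpow, Units.val_neg, Units.val_one] at hev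
            exfalso
            apply h2
            push_cast
            linear_combination -hev
        have h5 : ((wt a kk : ℤ) : ZMod 2) = (((List.ofFn fun i => (a i).val).sum : ℕ) : ZMod 2) := by
          rw [List.sum_ofFn, wt]
          push_cast
          simp only [show (3 : ZMod 2) = 1 from rfl, show (2 : ZMod 2) = 0 from rfl, one_pow, mul_one, zero_mul,
            sub_zero]
        rw [(ZMod.intCast_eq_zero_iff_even).2 heven, eq_comm, ZMod.natCast_eq_zero_iff] at h5
        exact h5
      refine ⟨((List.ofFn fun i => (a i).val), d) :: Ls, ?_, fun g m hg hm u hu => ?_⟩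
      · intro b hb
        rcases List.mem_cons.1 hb with rfl | hb
        · refine ⟨List.length_ofFn, fun x hx => ?_, hsum, hd⟩
          obtain ⟨i, rfl⟩ := List.mem_ofFn.1 hx
          have := (a i).2
          omega
        · exact hLs1 b hb
      · obtain ⟨hinv, hrec⟩ := hLs2 g m hg hm u hu
        set W := wts (List.ofFn fun i => (a i).val) with hW
        obtain ⟨hd', hsum'⟩ := hstep g m hg hm (fun c => cnt W fun e => ((u ^ e : Kˣ) : K) = c)
          (hwt g m hg hm u hu)
        have hfr : ∀ (i : ℕ) (c : K), cnt W (fun e => ((u ^ e : Kˣ) : K) = (frob i).symm c) =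
            cnt W (fun e => ((u ^ e : Kˣ) : K) ^ 3 ^ i = c) := fun i c =>
          congrArg (cnt W) (funext fun e => propext (frob_symm_eq_iff i _ c))
        refine ⟨fun b hb c => ?_, fun c => ?_⟩
        · rcases List.mem_cons.1 hb with rfl | hb
          · rw [← hW, ← hfr]; exact hd' c
          · exact hinv b hb c
        · have h1 := hsum' c
          have h2 := hrec c
          simp only [hfr] at h1
          rw [List.map_cons, List.sum_cons]
          simp only [← hW]
          omega
  obtain ⟨L, hL1, hL2⟩ := main (Fintype.card n) ⊥ (Nat.le_add_left _ _) (stable_bot R) (by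
    ext v
    simp only [mem_tw, Submodule.mem_bot, funext_iff, Pi.zero_apply, map_eq_zero_iff _ (frob 1).symm.injective])
  have hbot : ∀ g c, emult R g c ⊥ = 0 := fun g c => by rw [emult, bot_inf_eq, finrank_bot]
  refine ⟨L, ?_, hL1, fun g m hm0 hm3 hg u P hP => ?_⟩
  · have hadm : Adm 1 1 := ⟨1, by ext i j; fin_cases i <;> fin_cases j <;> simp⟩
    obtain ⟨-, h⟩ := hL2 1 1 (pow_one 1) (by simp) 1 hadm
    have h1 := h 1
    rw [hbot, zero_add, emult_top] at h1
    have hE : Module.End.eigenspace (R 1) 1 = ⊤ := by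
      refine Submodule.eq_top_iff'.2 fun v => ?_
      rw [Module.End.mem_eigenspace_iff, map_one, one_smul]; rfl
    rw [hE, finrank_top, Module.finrank_fintype_fun_eq_card] at h1
    rw [← h1]
    simp [cnt, List.countP_eq_length]
  · have hm : (m : K) ≠ 0 := by rw [Ne, CharP.cast_eq_zero_iff K 3]; exact hm3
    obtain ⟨h1, h2⟩ := hL2 g m hg hm u ⟨P, hP⟩
    refine ⟨h1, fun c => ?_⟩
    have := h2 c
    rw [hbot, zero_add, emult_top] at this
    exact this.symm

end Cfsg.Agent.Lib.E8NoPSL3
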